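import Groth.Agent.ProjDualR.ExtSh.Stalk

/-!
Restriction of the sheaves `Ext^i` to opens.
-/

set_option linter.style.haveILetI false
set_option linter.unusedSectionVars false
set_option backward.isDefEq.respectTransparency false
set_option backward.isDefEq.respectTransparency.types false
set_option maxHeartbeats 400000

universe u

open CategoryTheory CategoryTheory.Limits AlgebraicGeometry TopologicalSpace Opposite

noncomputable section

namespace Groth.Agent.ProjDualR.ExtSh

open Groth.Agent

variable {X : Scheme.{u}}

theorem enoughInjectives_modules (X : Scheme.{u}) [HasInjectiveResolutions (ModSite.Mod X.sheaf)] :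
    EnoughInjectives X.Modules :=
  SpObjSS.enoughInjectives_of_hasInjectiveResolutions (C := ModSite.Mod X.sheaf)

theorem additive_sheafHom (F : X.Modules) [ModSite.HasSheafHom (O := X.sheaf) F] :
    (ModSite.sheafHom (O := X.sheaf) F : X.Modules ⥤ X.Modules).Additive :=
  (ModSite.sheafHomAdj (O := X.sheaf) F).right_adjoint_additive

/-- `ModSite.extSh` computed with `SheafHomX.hom`. -/
theorem nonempty_extSh_iso_rightDerived (F : X.Modules) [ModSite.HasSheafHom (O := X.sheaf) F]
    [HasInjectiveResolutions (ModSite.Mod X.sheaf)] (i : ℕ) (G : X.Modules) :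
    Nonempty (((ModSite.extSh (O := X.sheaf) F i).obj G : X.Modules) ≅
      (haveI := enoughInjectives_modules X; ((SheafHomX.hom F).rightDerived i).obj G)) := by
  haveI := enoughInjectives_modules X
  haveI := additive_sheafHom F
  exact ⟨(SiteBase.rightDerivedCongr (A := X.Modules) (B := X.Modules)
    (F := (ModSite.sheafHom (O := X.sheaf) F : X.Modules ⥤ X.Modules)) (G := SheafHomX.hom F) (sheafHomIso F) i).app G⟩

variable {U : Scheme.{u}} (j : U ⟶ X) [IsOpenImmersion j]

theorem preservesInjectiveObjects_restrict : (Scheme.Modules.restrictFunctor j).PreservesInjectiveObjects :=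
  ⟨fun {Q} hQ => Injective.injective_of_adjoint (KFlatLib.lshAdj j) Q⟩

/-- `Ext^i(F, G)|_U ≅ Ext^i(F|_U, G|_U)`. -/
theorem nonempty_extSh_restrict_iso (F G : X.Modules) (i : ℕ)
    [ModSite.HasSheafHom (O := X.sheaf) F] [HasInjectiveResolutions (ModSite.Mod X.sheaf)]
    [ModSite.HasSheafHom (O := U.sheaf) (F.restrict j)] [HasInjectiveResolutions (ModSite.Mod U.sheaf)] :
    Nonempty ((Scheme.Modules.restrictFunctor j).obj ((ModSite.extSh (O := X.sheaf) F i).obj G) ≅
      (ModSite.extSh (O := U.sheaf) (F.restrict j) i).obj (G.restrict j)) := by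
  haveI := enoughInjectives_modules X
  haveI := enoughInjectives_modules U
  haveI := preservesInjectiveObjects_restrict j
  obtain ⟨a⟩ := nonempty_extSh_iso_rightDerived F i G
  obtain ⟨b⟩ := nonempty_extSh_iso_rightDerived (X := U) (F.restrict j) i (G.restrict j)
  haveI : (Scheme.Modules.restrictFunctor j).IsRightAdjoint := (KFlatLib.lshAdj j).isRightAdjoint
  haveI : PreservesLimitsOfSize.{0, 0} (Scheme.Modules.restrictFunctor j) :=
    (KFlatLib.lshAdj j).rightAdjoint_preservesLimits
  haveI : PreservesColimitsOfSize.{0, 0} (Scheme.Modules.restrictFunctor j) :=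
    (Scheme.Modules.restrictAdjunction j).leftAdjoint_preservesColimits
  haveI : PreservesFiniteLimits (Scheme.Modules.restrictFunctor j) := ⟨fun _ => inferInstance⟩
  haveI : PreservesFiniteColimits (Scheme.Modules.restrictFunctor j) := ⟨fun _ => inferInstance⟩
  exact ⟨(Scheme.Modules.restrictFunctor j).mapIso a ≪≫
    (SiteBase.rightDerivedCompIso (SheafHomX.hom F) (Scheme.Modules.restrictFunctor j) i).symm.app G ≪≫
    (SiteBase.rightDerivedCongr (SheafHomX.restrictIso j F) i).app G ≪≫
    (SiteBase.rightDerivedPrecompIso (Scheme.Modules.restrictFunctor j) (SheafHomX.hom (F.restrict j)) i).app G ≪≫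
    b.symm⟩

end Groth.Agent.ProjDualR.ExtSh
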