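import Groth.Agent.ProjDualR.ExtSh.AffineHom
import Groth.Agent.ProjDualR.ExtSh.Restrict
import Groth.Agent.SheafHomX.Coherent
import Groth.Agent.Perf52.InjQC
import Groth.Agent.QCoh.Tilde
import Mathlib.Algebra.Category.ModuleCat.Ext.Finite

/-!
The sheaves `Ext^i` on a Noetherian affine scheme.
-/

set_option linter.style.haveILetI false
set_option linter.unusedSectionVars false
set_option backward.isDefEq.respectTransparency false
set_option backward.isDefEq.respectTransparency.types false
set_option maxHeartbeats 400000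

universe u

open CategoryTheory CategoryTheory.Limits AlgebraicGeometry TopologicalSpace Opposite

noncomputable section

namespace Groth.Agent.ProjDualR.ExtSh

open Groth.Agent

variable {R : CommRingCat.{u}}

local notation "ΓS" => moduleSpecΓFunctor (R := R)

/-- Evaluation of a global section of the sheaf of homomorphisms. -/
def topEval (F G : (Spec R).Modules) :
    ((ΓS).obj (H F G) : Type u) →ₗ[R] ((ΓS).obj F ⟶ (ΓS).obj G) where
  toFun s := ModuleCat.ofHom (R := R) (X := ↥((ΓS).obj F)) (Y := ↥((ΓS).obj G))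
    { toFun := fun m => evs (W := (⊤ : (Spec R).Opens)) s m
      map_add' := fun a b => evs_add_right _ a b
      map_smul' := fun r a => evs_smul_right ((Scheme.ΓSpecIso R).inv r) s a }
  map_add' a b := ModuleCat.hom_ext (LinearMap.ext fun m => evs_add_left a b m)
  map_smul' r a := ModuleCat.hom_ext (LinearMap.ext fun m => evs_smul_left ((Scheme.ΓSpecIso R).inv r) a m)

theorem topEval_bijective {F : (Spec R).Modules} (hF : Coh.IsCoh F) (G : (Spec R).Modules) :
    Function.Bijective (topEval F G) := by
  refine ⟨(injective_iff_map_eq_zero _).2 fun s hs => ?_, fun g => ?_⟩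
  · exact eq_zero_of_evs hF (isAffineOpen_top _) s fun m =>
      LinearMap.congr_fun (congrArg ModuleCat.Hom.hom hs) m
  · let f : Γ(F, (⊤ : (Spec R).Opens)) →ₗ[Γ(Spec R, ⊤)] Γ(G, (⊤ : (Spec R).Opens)) :=
      { toFun := fun m => g.hom m
        map_add' := fun a b => g.hom.map_add a b
        map_smul' := fun r a => by
          obtain ⟨r', rfl⟩ : ∃ r', (Scheme.ΓSpecIso R).inv r' = r :=
            ⟨(Scheme.ΓSpecIso R).hom r, congr($((Scheme.ΓSpecIso R).hom_inv_id) r)⟩
          exact g.hom.map_smul r' a }
    obtain ⟨s, hs⟩ := exists_evs_linear hF (isAffineOpen_top _) f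
    exact ⟨s, ModuleCat.hom_ext (LinearMap.ext fun m => hs m)⟩

/-- Global sections of the sheaf of homomorphisms. -/
def topHomIso {F : (Spec R).Modules} (hF : Coh.IsCoh F) :
    SheafHomX.hom F ⋙ ΓS ≅ ΓS ⋙ homL ((ΓS).obj F) :=
  NatIso.ofComponents
    (fun G => LinearEquiv.toModuleIso (X₁ := (ΓS).obj (H F G)) (X₂ := ((ΓS).obj F ⟶ (ΓS).obj G))
      (LinearEquiv.ofBijective (topEval F G) (topEval_bijective hF G)))
    fun {G G'} g => ModuleCat.hom_ext (LinearMap.ext fun s =>
      ModuleCat.hom_ext (LinearMap.ext fun m => evs_map g s m))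

/-- `Γ(M~) = M`, naturally. -/
theorem isIso_fromTildeΓ_hom [IsNoetherianRing R] {F : (Spec R).Modules} (hF : Coh.IsCoh F)
    {G : (Spec R).Modules} (hG : Coh.IsQCoh G) : IsIso (H F G).fromTildeΓ := by
  haveI : IsLocallyNoetherian (Spec R) := isLocallyNoetherian_Spec.2 inferInstance
  obtain ⟨σ, τ, _, _, f, g, w, hg, he⟩ := SheafHomX.exists_presentation_biproduct hF
  exact isIso_fromTildeΓ_iff.mpr (QCoh.isQCoh_spec_iff.mp (SheafHomX.isQCoh_hom_of_presentation f g w he hG).1)

theorem preservesInjectiveObjects_tilde [IsNoetherianRing R] : (tilde.functor R).PreservesInjectiveObjects :=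
  ⟨fun {Q} hQ => @Perf52.injective_tilde R _ Q hQ⟩

/-- `Ext^i(F, N~)` is `Ext^i(Γ F, N)~`. -/
theorem nonempty_extSh_tilde [IsNoetherianRing R] (F : (Spec R).Modules) (hF : Coh.IsCoh F) (N : ModuleCat.{u} R)
    [ModSite.HasSheafHom (O := (Spec R).sheaf) F] [HasInjectiveResolutions (ModSite.Mod (Spec R).sheaf)] (i : ℕ) :
    Nonempty (((ModSite.extSh (O := (Spec R).sheaf) F i).obj ((tilde.functor R).obj N) : (Spec R).Modules) ≅
      (tilde.functor R).obj (ModuleCat.of R (Abelian.Ext ((ΓS).obj F) N i))) := by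
  haveI := enoughInjectives_modules (Spec R)
  haveI := preservesInjectiveObjects_tilde (R := R)
  haveI : PreservesFiniteColimits (tilde.functor R) := by
    haveI : PreservesColimitsOfSize.{0, 0} (tilde.functor R) := tilde.adjunction.leftAdjoint_preservesColimits
    exact ⟨fun _ => inferInstance⟩
  haveI : (ΓS).Additive := ⟨fun {M N f g} => rfl⟩
  haveI : (tilde.functor R).Additive := tilde.adjunction.left_adjoint_additive
  obtain ⟨a⟩ := nonempty_extSh_iso_rightDerived F i ((tilde.functor R).obj N)
  let J := injectiveResolution N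
  let I := SiteBase.mapResolution (tilde.functor R) J
  let c := ComplexShape.up ℕ
  let K := ((SheafHomX.hom F).mapHomologicalComplex c).obj (((tilde.functor R).mapHomologicalComplex c).obj J.cocomplex)
  let L := homCx ((ΓS).obj F) J
  -- the complex is the sheaf of the complex of modules
  let e0 : ((tilde.functor R).mapHomologicalComplex c).obj (((ΓS).mapHomologicalComplex c).obj K) ≅ K := by
    refine HomologicalComplex.Hom.isoOfComponents (fun n =>
      @asIso _ _ _ _ ((K.X n).fromTildeΓ) (isIso_fromTildeΓ_hom hF (inferInstance :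
        ((tilde.functor R).obj (J.cocomplex.X n)).IsQuasicoherent))) fun n m _ => ?_
    exact (Scheme.Modules.fromTildeΓNatTrans.naturality (K.d n m)).symm
  let e1 : ((ΓS).mapHomologicalComplex c).obj K ≅ L :=
    HomologicalComplex.Hom.isoOfComponents
      (fun n => (topHomIso hF).app ((tilde.functor R).obj (J.cocomplex.X n)) ≪≫
        (homL ((ΓS).obj F)).mapIso (tilde.toTildeΓNatIso.app (J.cocomplex.X n)).symm)
      fun n m _ => by
        have h1 := (topHomIso hF).hom.naturality ((tilde.functor R).map (J.cocomplex.d n m))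
        have h2 := congrArg (homL ((ΓS).obj F)).map (tilde.toTildeΓNatIso.inv.naturality (J.cocomplex.d n m))
        simp only [Functor.map_comp] at h2
        show ((topHomIso hF).app _ ≪≫ _).hom ≫ _ = (SheafHomX.hom F ⋙ ΓS).map _ ≫ ((topHomIso hF).app _ ≪≫ _).hom
        simp only [Iso.trans_hom, Iso.app_hom, Functor.mapIso_hom, Iso.symm_hom, Iso.app_inv, Category.assoc]
        exact (congrArg (_ ≫ ·) h2.symm).trans
          ((Category.assoc _ _ _).symm.trans ((congrArg (· ≫ _) h1.symm).trans (Category.assoc _ _ _)))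
  obtain ⟨e2⟩ := exists_extHomologyEquiv ((ΓS).obj F) J i
  exact ⟨a ≪≫ I.isoRightDerivedObj (SheafHomX.hom F) i ≪≫
    (HomologicalComplex.homologyFunctor (Spec R).Modules c i).mapIso
      (e0.symm ≪≫ ((tilde.functor R).mapHomologicalComplex c).mapIso e1) ≪≫
    (L.sc i).mapHomologyIso (tilde.functor R) ≪≫ (tilde.functor R).mapIso e2.symm.toModuleIso⟩

end Groth.Agent.ProjDualR.ExtSh
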