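import Groth.Agent.ProjDualR.ExtSh.StalkHom

/-!
Sections over affine opens of the sheaf of homomorphisms out of a coherent module.
-/

set_option linter.style.haveILetI false
set_option linter.unusedSectionVars false
set_option backward.isDefEq.respectTransparency false
set_option backward.isDefEq.respectTransparency.types false
set_option maxHeartbeats 400000

universe u

open CategoryTheory CategoryTheory.Limits AlgebraicGeometry TopologicalSpace Opposite

noncomputable section

namespace Groth.Agent.ProjDualR.ExtSh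

open Groth.Agent Groth.Agent.AModX

variable {X : Scheme.{u}} {F G : X.Modules} {U : X.Opens}

theorem eq_zero_of_evs (hF : Coh.IsCoh F) (hU : IsAffineOpen U) (s : Γ(H F G, U))
    (h : ∀ m : Γ(F, U), evs s m = 0) : s = 0 := by
  haveI := (QCoh.isCoh_iff.1 hF).2 ⟨U, hU⟩
  obtain ⟨n, t, ht⟩ := Submodule.fg_iff_exists_fin_generating_family.1
    (Module.Finite.fg_top (R := Γ(X, U)) (M := Γ(F, U)))
  refine TopCat.Presheaf.section_ext ⟨(H F G).presheaf, (H F G).isSheaf⟩ U _ _ fun y hy => ?_
  show (H F G).presheaf.germ U y hy s = (H F G).presheaf.germ U y hy 0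
  rw [map_zero]
  refine θ_injective hF y ?_
  rw [map_zero]
  refine LinearMap.ext_on_range (span_germ_eq_top hF.1 hU t ht hy) fun i => ?_
  rw [θ_germ, h, map_zero]
  rfl

theorem exists_evs_linear (hF : Coh.IsCoh F) (hU : IsAffineOpen U) (f : Γ(F, U) →ₗ[Γ(X, U)] Γ(G, U)) :
    ∃ s : Γ(H F G, U), ∀ m : Γ(F, U), evs s m = f m := by
  haveI := (QCoh.isCoh_iff.1 hF).2 ⟨U, hU⟩
  obtain ⟨n, t, ht⟩ := Submodule.fg_iff_exists_fin_generating_family.1
    (Module.Finite.fg_top (R := Γ(X, U)) (M := Γ(F, U)))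
  have hφ : ∀ (y : X) (hy : y ∈ U), ∃ φ : (F.presheaf.stalk y : Type u) →ₗ[X.presheaf.stalk y] G.presheaf.stalk y,
      ∀ m, φ (F.presheaf.germ U y hy m) = G.presheaf.germ U y hy (f m) := by
    intro y hy
    letI := QCoh.stalkAlg (X := X) hy
    letI := QCoh.stalkModule F hy
    letI := QCoh.stalkModule G hy
    haveI := QCoh.isScalarTower_stalk F hy
    haveI := QCoh.isScalarTower_stalk G hy
    haveI := QCoh.isLocalization_stalk' hU hy
    haveI := QCoh.isLocalizedModule_germLin hF.1 hU hy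
    let S := (hU.primeIdealOf ⟨y, hy⟩).asIdeal.primeCompl
    let L : Γ(F, U) →ₗ[Γ(X, U)] G.presheaf.stalk y := QCoh.germLin G hy ∘ₗ f
    have hunit : ∀ s : S, IsUnit (algebraMap Γ(X, U) (Module.End Γ(X, U) (G.presheaf.stalk y)) s) := fun s => by
      rw [Module.End.isUnit_iff]
      have hu : IsUnit (algebraMap Γ(X, U) (X.presheaf.stalk y) s) := IsLocalization.map_units _ s
      have heq : ⇑(algebraMap Γ(X, U) (Module.End Γ(X, U) (G.presheaf.stalk y)) s) = fun v => hu.unit • v :=
        funext fun v => (IsScalarTower.algebraMap_smul (X.presheaf.stalk y) (s : Γ(X, U)) v).symm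
      rw [heq]
      exact MulAction.bijective hu.unit
    let φ₀ := IsLocalizedModule.lift S (QCoh.germLin F hy) L hunit
    exact ⟨φ₀.extendScalarsOfIsLocalization S (X.presheaf.stalk y),
      fun m => IsLocalizedModule.lift_apply S (QCoh.germLin F hy) L hunit m⟩
  choose φ hφ using hφ
  obtain ⟨ψ, hψ⟩ := exists_hom_of_stalks hF.1 hU t ht le_rfl (fun i => f (t i)) φ fun y hy i => hφ y hy (t i)
  obtain ⟨s, hs⟩ := exists_evs ψ
  refine ⟨s, fun m => ?_⟩
  refine TopCat.Presheaf.section_ext ⟨G.presheaf, G.isSheaf⟩ U _ _ fun y hy => ?_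
  show G.presheaf.germ U y hy _ = G.presheaf.germ U y hy _
  have hyZ : y ∈ U.ι ''ᵁ ⊤ := by rw [Scheme.Hom.image_top_eq_opensRange, Scheme.Opens.opensRange_ι]; exact hy
  rw [← InvX.germ_res' (U.ι_image_le ⊤) hyZ (evs s m), res_evs, hs, hψ, InvX.germ_res', hφ]

end Groth.Agent.ProjDualR.ExtSh
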