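import Groth.Agent.ProjDualR.ExtSh.Affine
import Groth.Agent.ModTensor.SheafHom

/-!
The sheaves `Ext^i` of coherent modules: affine charts, sections over affine opens, coherence.
-/

set_option linter.style.haveILetI false
set_option linter.unusedSectionVars false
set_option backward.isDefEq.respectTransparency false
set_option backward.isDefEq.respectTransparency.types false
set_option maxHeartbeats 400000

universe u

open CategoryTheory CategoryTheory.Limits AlgebraicGeometry TopologicalSpace Opposite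

noncomputable section

namespace Groth.Agent.ProjDualR.ExtSh

open Groth.Agent


variable {X : Scheme.{u}}

/-- `Ext^i(F, G)` on an affine chart. -/
theorem nonempty_extSh_chart [IsLocallyNoetherian X] (F G : X.Modules) (hF : Coh.IsCoh F) (hG : Coh.IsQCoh G)
    [ModSite.HasSheafHom (O := X.sheaf) F] [HasInjectiveResolutions (ModSite.Mod X.sheaf)] (i : ℕ)
    {R : CommRingCat.{u}} [IsNoetherianRing R] (j : Spec R ⟶ X) [IsOpenImmersion j] :
    Nonempty (Scheme.Modules.restrict ((ModSite.extSh (O := X.sheaf) F i).obj G) j ≅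
      (tilde.functor R).obj (ModuleCat.of R
        (Abelian.Ext ((moduleSpecΓFunctor (R := R)).obj (F.restrict j)) ((moduleSpecΓFunctor (R := R)).obj (G.restrict j)) i))) := by
  haveI : ModSite.HasSheafHom (O := (Spec R).sheaf) (F.restrict j) := ModTensor.hasSheafHom _
  haveI : HasInjectiveResolutions (ModSite.Mod (Spec R).sheaf) :=
    inferInstanceAs (HasInjectiveResolutions (Spec R).Modules)
  obtain ⟨a⟩ := nonempty_extSh_restrict_iso j F G i
  obtain ⟨b⟩ := nonempty_extSh_tilde (F.restrict j) (SheafHomX.isCoh_restrict j hF) ((moduleSpecΓFunctor (R := R)).obj (G.restrict j)) i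
  haveI : IsIso (G.restrict j).fromTildeΓ :=
    (isQuasicoherent_iff_isIso_fromTildeΓ _).1 (QCoh.isQCoh_restrict j hG)
  exact ⟨a ≪≫ (ModSite.extSh (O := (Spec R).sheaf) (F.restrict j) i).mapIso
    (asIso (G.restrict j).fromTildeΓ).symm ≪≫ b⟩

/-- `Ext^i` of coherent modules on a locally Noetherian scheme is coherent. -/
theorem isCoh_extSh [IsLocallyNoetherian X] (F G : X.Modules) (hF : Coh.IsCoh F) (hG : Coh.IsCoh G)
    [ModSite.HasSheafHom (O := X.sheaf) F] [HasInjectiveResolutions (ModSite.Mod X.sheaf)] (i : ℕ) :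
    Coh.IsCoh ((ModSite.extSh (O := X.sheaf) F i).obj G) := by
  let E : X.Modules := (ModSite.extSh (O := X.sheaf) F i).obj G
  have hloc : ∀ (R : CommRingCat.{u}) (j : Spec R ⟶ X) [IsOpenImmersion j], Coh.IsCoh (E.restrict j) := fun R j _ => by
    haveI : IsLocallyNoetherian (Spec R) := LocallyOfFiniteType.isLocallyNoetherian j
    haveI : IsNoetherianRing R := isLocallyNoetherian_Spec.1 ‹_›
    obtain ⟨e⟩ := nonempty_extSh_chart F G hF hG.1 i j
    have fin : ∀ {M : X.Modules}, Coh.IsCoh M → Module.Finite R ((moduleSpecΓFunctor (R := R)).obj (M.restrict j)) := fun h =>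
      (QCoh.isFT_iff_finite (R := R) _ (SheafHomX.isCoh_restrict j h).1).1 (SheafHomX.isCoh_restrict j h).2
    haveI := fin hF
    haveI := fin hG
    exact SheafHomX.isCoh_of_iso e.symm
      ⟨QCoh.isQCoh_spec_iff.2 ((tilde.functor R).obj_mem_essImage _), (QCoh.isFT_tilde_iff _).2 inferInstance⟩
  have hq : Coh.IsQCoh E := QCoh.isQCoh_of_charts fun R j _ => (hloc R j).1
  refine QCoh.isCoh_iff.2 ⟨hq, fun U => ?_⟩
  haveI : Module.Finite Γ(X, U.1) ((moduleSpecΓFunctor (R := Γ(X, U.1))).obj (E.restrict U.2.fromSpec)) :=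
    (QCoh.isFT_iff_finite (R := Γ(X, U.1)) _ (hloc _ U.2.fromSpec).1).1 (hloc _ U.2.fromSpec).2
  exact Module.Finite.equiv (QCoh.chartEquiv U.2 E).symm

/-- Sections of `Ext^i` over an affine open. -/
theorem nonempty_sections_extSh [IsLocallyNoetherian X] {U : X.Opens} (hU : IsAffineOpen U) (F G : X.Modules)
    (hF : Coh.IsCoh F) (hG : Coh.IsQCoh G)
    [ModSite.HasSheafHom (O := X.sheaf) F] [HasInjectiveResolutions (ModSite.Mod X.sheaf)] (i : ℕ) :
    Nonempty (Γ((show X.Modules from (ModSite.extSh (O := X.sheaf) F i).obj G), U) ≃ₗ[Γ(X, U)]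
      Abelian.Ext (ModuleCat.of Γ(X, U) Γ(F, U)) (ModuleCat.of Γ(X, U) Γ(G, U)) i) := by
  haveI : IsNoetherianRing Γ(X, U) := IsLocallyNoetherian.component_noetherian ⟨U, hU⟩
  obtain ⟨e⟩ := nonempty_extSh_chart F G hF hG i hU.fromSpec
  let e1 := QCoh.chartEquiv hU (show X.Modules from (ModSite.extSh (O := X.sheaf) F i).obj G)
  let e2 := ((moduleSpecΓFunctor (R := Γ(X, U))).mapIso e).toLinearEquiv
  let e3 := (tilde.toTildeΓNatIso.app (ModuleCat.of Γ(X, U) (Abelian.Ext
    ((moduleSpecΓFunctor (R := Γ(X, U))).obj (F.restrict hU.fromSpec))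
    ((moduleSpecΓFunctor (R := Γ(X, U))).obj (G.restrict hU.fromSpec)) i))).toLinearEquiv.symm
  let a : (moduleSpecΓFunctor (R := Γ(X, U))).obj (F.restrict hU.fromSpec) ≅ ModuleCat.of Γ(X, U) Γ(F, U) :=
    (QCoh.chartEquiv hU F).symm.toModuleIso
  let b : (moduleSpecΓFunctor (R := Γ(X, U))).obj (G.restrict hU.fromSpec) ≅ ModuleCat.of Γ(X, U) Γ(G, U) :=
    (QCoh.chartEquiv hU G).symm.toModuleIso
  exact ⟨e1.trans (e2.trans (e3.trans (extLinearEquiv a b i)))⟩

/-- `Ext(Γ(M~), N) = Ext(M, N)`. -/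
theorem ext_tildeΓ {R : CommRingCat.{u}} (M N : ModuleCat.{u} R) (i : ℕ) :
    Nonempty (ModuleCat.of R (Abelian.Ext (moduleSpecΓFunctor.obj ((tilde.functor R).obj M)) N i) ≅
      ModuleCat.of R (Abelian.Ext M N i)) :=
  ⟨(extLinearEquiv (tilde.toTildeΓNatIso.app M).symm (Iso.refl N) i).toModuleIso⟩
/-- `Ext^i(M~, N~) = Ext^i(M, N)~`. -/
theorem nonempty_extSh_tilde_tilde {R : CommRingCat.{u}} [IsNoetherianRing R] (M N : ModuleCat.{u} R) [Module.Finite R M]
    [ModSite.HasSheafHom (O := (Spec R).sheaf) (tilde M)] [HasInjectiveResolutions (ModSite.Mod (Spec R).sheaf)] (i : ℕ) :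
    Nonempty (((ModSite.extSh (O := (Spec R).sheaf) (tilde M) i).obj (tilde N) : (Spec R).Modules) ≅
      tilde (ModuleCat.of R (Abelian.Ext M N i))) := by
  haveI : IsLocallyNoetherian (Spec R) := isLocallyNoetherian_Spec.2 inferInstance
  have hF : Coh.IsCoh (tilde M) :=
    ⟨QCoh.isQCoh_spec_iff.2 ((tilde.functor _).obj_mem_essImage M), (QCoh.isFT_tilde_iff _).2 ‹Module.Finite R M›⟩
  obtain ⟨e⟩ := nonempty_extSh_tilde (tilde M) hF N i
  obtain ⟨f⟩ := ext_tildeΓ M N i
  exact ⟨e ≪≫ (tilde.functor R).mapIso f⟩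
end Groth.Agent.ProjDualR.ExtSh
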