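import Groth.Agent.LC.CohDerived
import Mathlib.CategoryTheory.Abelian.Injective.Ext
import Mathlib.CategoryTheory.Linear.Yoneda

/-!
Ext groups as right derived functors of `Hom(P, -)`, linearly.
-/

universe u

open CategoryTheory CategoryTheory.Limits Opposite

noncomputable section

namespace Groth.Agent.ProjDualR.ExtSh

variable {R : Type u} [CommRing R] (P : ModuleCat.{u} R) {M : ModuleCat.{u} R} (J : InjectiveResolution M) (i : ℕ)

/-- `Hom(P, -)` as an `R`-linear functor. -/
abbrev homL : ModuleCat.{u} R ⥤ ModuleCat.{u} R := (linearCoyoneda R (ModuleCat.{u} R)).obj (op P)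

/-- The complex `Hom(P, J)`. -/
abbrev homCx : CochainComplex (ModuleCat.{u} R) ℕ := ((homL P).mapHomologicalComplex _).obj J.cocomplex

/-- A cocycle of `Hom(P, J)`. -/
def homCyc (f : P ⟶ J.cocomplex.X i) (hf : f ≫ J.cocomplex.d i (i + 1) = 0) :
    LinearMap.ker ((homCx P J).d i (i + 1)).hom :=
  ⟨f, LinearMap.mem_ker.2 hf⟩

theorem class_homCyc_eq_zero_iff (f : P ⟶ J.cocomplex.X i) (hf : f ≫ J.cocomplex.d i (i + 1) = 0) :
    LC.classOf _ i (homCyc P J i f hf) = 0 ↔ J.extMk f (i + 1) rfl hf = 0 := by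
  rw [LC.classOf_eq_zero_iff]
  rcases i with _ | p
  · have hd : (homCx P J).d ((ComplexShape.up ℕ).prev 0) 0 = 0 := (homCx P J).shape _ _ (by simp)
    constructor
    · rintro ⟨y, hy⟩
      rw [hd] at hy
      have h0 : f = 0 := hy.symm
      subst h0
      exact J.extMk_zero 1 rfl
    · intro h
      refine ⟨0, ?_⟩
      rw [map_zero]
      refine (Eq.symm ?_)
      show f = 0
      rw [← J.extEquivCohomologyClass.apply_eq_iff_eq,
        InjectiveResolution.extEquivCohomologyClass_extMk,
        InjectiveResolution.extEquivCohomologyClass_zero,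
        CochainComplex.HomComplex.CohomologyClass.mk_eq_zero_iff,
        CochainComplex.HomComplex.Cocycle.fromSingleMk_mem_coboundaries_iff _ _ _ _ _ (-1) (by simp)] at h
      obtain ⟨l, hl⟩ := h
      rw [(CochainComplex.isZero_of_isStrictlyGE J.cochainComplex 0 (-1)).eq_of_tgt l 0, zero_comp] at hl
      rw [← cancel_mono (J.cochainComplexXIso ((0 : ℕ) : ℤ) 0 rfl).inv, zero_comp]
      exact hl.symm
  · rw [CochainComplex.prev_nat_succ]
    exact (J.extMk_eq_zero_iff _ (p + 2) rfl _ p rfl).symm

/-- `Ext(P, M)` is the cohomology of `Hom(P, J)`. -/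
theorem exists_extHomologyEquiv :
    Nonempty (Abelian.Ext P M i ≃ₗ[R] (homCx P J).homology i) := by
  choose F hF hFx using fun x : Abelian.Ext P M i => J.extMk_surjective x (i + 1) rfl
  have key : ∀ x f hf, J.extMk f (i + 1) rfl hf = x →
      LC.classOf _ i (homCyc P J i f hf) = LC.classOf _ i (homCyc P J i (F x) (hF x)) := by
    intro x f hf hx
    have hsub : (f - F x) ≫ J.cocomplex.d i (i + 1) = 0 := by
      rw [Preadditive.sub_comp, hf, hF, sub_zero]
    have h0 : J.extMk (f - F x) (i + 1) rfl hsub = 0 := by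
      rw [← J.sub_extMk f (F x) (i + 1) rfl hf (hF x), hx, hFx, sub_self]
    have := (class_homCyc_eq_zero_iff P J i _ hsub).2 h0
    rw [show homCyc P J i (f - F x) hsub = homCyc P J i f hf - homCyc P J i (F x) (hF x) from
      Subtype.ext rfl, map_sub, sub_eq_zero] at this
    exact this
  let φ : Abelian.Ext P M i →ₗ[R] (homCx P J).homology i :=
    { toFun := fun x => LC.classOf _ i (homCyc P J i (F x) (hF x))
      map_add' := fun x y => by
        rw [← key (x + y) (F x + F y) (by rw [Preadditive.add_comp, hF, hF, add_zero])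
          (by rw [← J.add_extMk _ _ (i + 1) rfl (hF x) (hF y), hFx, hFx]),
          show homCyc P J i (F x + F y) _ = homCyc P J i (F x) (hF x) + homCyc P J i (F y) (hF y) from
            Subtype.ext rfl, map_add]
      map_smul' := fun r x => by
        have e : r • x = (Abelian.Ext.mk₀ (r • 𝟙 P)).comp x (zero_add i) := by
          rw [Abelian.Ext.mk₀_smul, Abelian.Ext.smul_comp, Abelian.Ext.mk₀_id_comp]
        rw [RingHom.id_apply, ← key (r • x) ((r • 𝟙 _) ≫ F x) (by rw [Category.assoc, hF, comp_zero])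
          (by rw [e, ← J.mk₀_comp_extMk _ (i + 1) rfl (hF x), hFx]),
          show homCyc P J i ((r • 𝟙 _) ≫ F x) _ = r • homCyc P J i (F x) (hF x) from
            Subtype.ext (by
              show (r • 𝟙 P) ≫ F x = r • F x
              rw [Linear.smul_comp, Category.id_comp]), map_smul] }
  refine ⟨LinearEquiv.ofBijective φ ⟨(injective_iff_map_eq_zero _).2 fun x hx => ?_, fun c => ?_⟩⟩
  · rw [← hFx x]
    exact (class_homCyc_eq_zero_iff P J i _ _).1 hx
  · obtain ⟨⟨f, hf⟩, rfl⟩ := LC.classOf_surjective _ i c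
    exact ⟨J.extMk f (i + 1) rfl hf, (key _ f hf rfl).symm⟩

theorem exists_rightDerived_homL (M : ModuleCat.{u} R) :
    Nonempty (((homL P).rightDerived i).obj M ≃ₗ[R] Abelian.Ext P M i) := by
  obtain ⟨e⟩ := exists_extHomologyEquiv P (injectiveResolution M) i
  exact ⟨((injectiveResolution M).isoRightDerivedObj (homL P) i).toLinearEquiv.trans e.symm⟩

end Groth.Agent.ProjDualR.ExtSh
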