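import Groth.Agent.SheafHomX.Basic
import Groth.Agent.InvX.Tensor
import Groth.Agent.Coh32.LshSections
import Groth.Agent.KFlatLib.Scheme.PullTensorCx

/-!
Sections of the sheaf of homomorphisms as compatible families of linear maps.
-/

set_option linter.style.haveILetI false
set_option linter.unusedSectionVars false
set_option backward.isDefEq.respectTransparency false
set_option backward.isDefEq.respectTransparency.types false
set_option maxHeartbeats 400000

universe u

open CategoryTheory CategoryTheory.Limits AlgebraicGeometry TopologicalSpace Opposite MonoidalCategory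
open scoped TensorProduct

noncomputable section

namespace Groth.Agent.ProjDualR.ExtSh

open Groth.Agent Groth.Agent.AModX

variable {X : Scheme.{u}} {M N P : X.Modules}

theorem tmul_add_left {U : X.Opens} (a a' : Γ(M, U)) (b : Γ(N, U)) :
    InvX.tmul (a + a') b = InvX.tmul a b + InvX.tmul a' b :=
  (congrArg _ (KFlatLib.tm_add_left a a' b)).trans (map_add _ _ _)

theorem tmul_add_right {U : X.Opens} (a : Γ(M, U)) (b b' : Γ(N, U)) :
    InvX.tmul a (b + b') = InvX.tmul a b + InvX.tmul a b' :=
  (congrArg _ (KFlatLib.tm_add_right a b b')).trans (map_add _ _ _)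

theorem tmul_map_left (α : M ⟶ P) {U : X.Opens} (a : Γ(M, U)) (b : Γ(N, U)) :
    ((SheafHomX.ten N).map α).app U (InvX.tmul a b) = InvX.tmul (α.app U a) b :=
  (congrArg (fun g : DCoh.toP.obj M ⊗ DCoh.toP.obj N ⟶ _ => g.app (op U) (KFlatLib.tm a b))
    (KFlatLib.unitShP_naturality (DCoh.toP.map α ▷ DCoh.toP.obj N))).symm

/-- Stalks of tensor products. -/
theorem exists_stalkTensor (M N : X.Modules) (x : X) :
    ∃ ψ : (M.presheaf.stalk x : Type u) ⊗[X.presheaf.stalk x] (N.presheaf.stalk x : Type u) →ₗ[X.presheaf.stalk x]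
        (CohB1.tensorMod M N).presheaf.stalk x,
      Function.Bijective ψ ∧ ∀ (U : X.Opens) (hx : x ∈ U) (a : Γ(M, U)) (b : Γ(N, U)),
        ψ (M.presheaf.germ U x hx a ⊗ₜ N.presheaf.germ U x hx b) =
          (CohB1.tensorMod M N).presheaf.germ U x hx (InvX.tmul a b) := by
  let P := CohB1.toPMod M
  let Q := CohB1.toPMod N
  haveI hi := KFlatLib.isIso_stalk_unitShP (x := x) (P ⊗ Q)
  let v : KFlatLib.stalkMod x (P ⊗ Q) →ₗ[X.presheaf.stalk x]
      KFlatLib.stalkMod x (DCoh.toP.obj (DCoh.shP.obj (P ⊗ Q))) :=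
    ((KFlatLib.stalkP x).map (KFlatLib.unitShP (P ⊗ Q))).hom
  refine ⟨v ∘ₗ (KFlatLib.tensorStalkEquiv P Q).toLinearMap, ?_, fun U hx a b => ?_⟩
  · exact (ConcreteCategory.bijective_of_isIso ((KFlatLib.stalkP x).map (KFlatLib.unitShP (P ⊗ Q)))).comp
      (KFlatLib.tensorStalkEquiv P Q).bijective
  · exact (congrArg v (KFlatLib.ofTensor_germ U hx a b)).trans (KFlatLib.stalkModMap_germ _ U hx _)

/-- The sheaf of homomorphisms. -/
abbrev H (F G : X.Modules) : X.Modules := (SheafHomX.hom F).obj G

variable {F G G' : X.Modules}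

/-- Evaluation of a section of the sheaf of homomorphisms. -/
def evs {W : X.Opens} (s : Γ(H F G, W)) (m : Γ(F, W)) : Γ(G, W) :=
  ((SheafHomX.adj F).counit.app G).app W (InvX.tmul s m)

theorem evs_add_left {W : X.Opens} (s s' : Γ(H F G, W)) (m : Γ(F, W)) :
    evs (s + s') m = evs s m + evs s' m :=
  (congrArg _ (tmul_add_left s s' m)).trans (map_add _ _ _)

theorem evs_add_right {W : X.Opens} (s : Γ(H F G, W)) (m m' : Γ(F, W)) :
    evs s (m + m') = evs s m + evs s m' :=
  (congrArg _ (tmul_add_right s m m')).trans (map_add _ _ _)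

theorem evs_smul_left {W : X.Opens} (r : Γ(X, W)) (s : Γ(H F G, W)) (m : Γ(F, W)) :
    evs (r • s) m = r • evs s m :=
  (congrArg _ (InvX.tmul_smul_left r s m)).trans (Scheme.Modules.Hom.app_smul _ _ _)

theorem evs_smul_right {W : X.Opens} (r : Γ(X, W)) (s : Γ(H F G, W)) (m : Γ(F, W)) :
    evs s (r • m) = r • evs s m :=
  (congrArg _ (InvX.tmul_smul_right r s m)).trans (Scheme.Modules.Hom.app_smul _ _ _)

theorem res_evs {W W' : X.Opens} (h : W' ≤ W) (s : Γ(H F G, W)) (m : Γ(F, W)) :
    res G h (evs s m) = evs (res (H F G) h s) (res F h m) :=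
  (app_res ((SheafHomX.adj F).counit.app G) h _).symm.trans (congrArg _ (InvX.res_tmul h s m))

theorem evs_map (g : G ⟶ G') {W : X.Opens} (s : Γ(H F G, W)) (m : Γ(F, W)) :
    evs (((SheafHomX.hom F).map g).app W s) m = g.app W (evs s m) := by
  refine (congrArg _ (tmul_map_left ((SheafHomX.hom F).map g) s m).symm).trans ?_
  exact congrArg (fun φ => φ.app W (InvX.tmul s m)) ((SheafHomX.adj F).counit.naturality g)

section Lsh

open Groth.Agent.KFlatLib (lsh lshAdj)

theorem isIso_counit_lsh {U : Scheme.{u}} (j : U ⟶ X) [IsOpenImmersion j] (M : X.Modules)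
    (hM : ∀ x ∉ Set.range j.base, IsZero ((DerSch.stalkFunctor X x).obj M)) :
    IsIso ((lshAdj j).counit.app M) :=
  KFlatLib.isIso_of_restrict_of_stalk j _
    (IsIso.of_isIso_fac_left ((lshAdj j).right_triangle_components M))
    (fun x hx => KFlatLib.isZero_stalk_lsh j x hx _) hM

theorem app_one {Y : Scheme.{u}} {N : Y.Modules} (η : Coh.structureModule Y ⟶ N) (V : Y.Opens) :
    η.app V (show Γ(Coh.structureModule Y, V) from (1 : Γ(Y, V))) =
      res N le_top (η.app ⊤ (show Γ(Coh.structureModule Y, ⊤) from (1 : Γ(Y, ⊤)))) := by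
  refine Eq.trans (congrArg (η.app V) ?_) (app_res η le_top _)
  exact (map_one (Y.presheaf.map (homOfLE (le_top : V ≤ ⊤)).op).hom).symm

theorem app_smul_one {Y : Scheme.{u}} {N : Y.Modules} (η : Coh.structureModule Y ⟶ N) (V : Y.Opens)
    (r : Γ(Y, V)) : η.app V (show Γ(Coh.structureModule Y, V) from r) =
      r • η.app V (show Γ(Coh.structureModule Y, V) from (1 : Γ(Y, V))) :=
  (congrArg (η.app V) (mul_one r).symm).trans (Scheme.Modules.Hom.app_smul η r _)

theorem isFrame_lshSec (U : X.Opens) : InvX.IsFrame (Coh32.lshSec U) := by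
  intro W hW
  obtain ⟨V, rfl⟩ : ∃ V : U.toScheme.Opens, U.ι ''ᵁ V = W := ⟨U.ι ⁻¹ᵁ W, by
    rw [Scheme.Hom.image_preimage_eq_opensRange_inf, Scheme.Opens.opensRange_ι, inf_eq_right.2 hW]⟩
  let η := (lshAdj U.ι).unit.app (Coh.structureModule U.toScheme)
  haveI : IsIso η := inferInstance
  have hb := (ConcreteCategory.isIso_iff_bijective (η.app V)).1
    (Scheme.Modules.Hom.isIso_iff_isIso_app.1 inferInstance V)
  convert! hb using 1
  funext r
  refine Eq.trans ?_ ((app_smul_one η V r).trans (congrArg ((show Γ(U.toScheme, V) from r) • ·) (app_one η V))).symm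
  rw [show res (Coh32.lshOne U) hW (Coh32.lshSec U) =
      res (Coh32.lshOne U) (U.ι.image_mono (le_top : V ≤ ⊤)) (η.app ⊤ (show Γ(Coh.structureModule U.toScheme, ⊤)
        from (1 : Γ(U.toScheme, ⊤)))) from res_res _ _ _]
  refine Eq.trans ?_ (show (U.ι.appIso V).inv.hom r • res (Coh32.lshOne U) (U.ι.image_mono (le_top : V ≤ ⊤)) _ = _ from rfl)
  rw [Scheme.Opens.ι_appIso]
  rfl

variable (F) in
/-- The extension by zero of `F|U`, as a tensor product. -/
abbrev T (U : X.Opens) : X.Modules := CohB1.tensorMod (Coh32.lshOne U) F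

/-- Morphisms out of `T F U` vanishing on the generating sections vanish. -/
theorem hom_T_eq_zero {U : X.Opens} (ψ : T F U ⟶ G)
    (h : ∀ (W : X.Opens) (hW : W ≤ U) (m : Γ(F, W)),
      ψ.app W (InvX.tmul (res _ hW (Coh32.lshSec U)) m) = 0) : ψ = 0 := by
  refine Scheme.Modules.hom_ext _ _ fun W => ?_
  ext t
  refine TopCat.Presheaf.section_ext ⟨G.presheaf, G.isSheaf⟩ W _ _ fun y hy => ?_
  show G.presheaf.germ W y hy (ψ.app W t) = G.presheaf.germ W y hy 0
  rw [map_zero]
  by_cases hyU : y ∈ U
  · have key : ∀ z : (T F U).presheaf.stalk y,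
        ((TopCat.Presheaf.stalkFunctor AddCommGrpCat.{u} y).map ψ.mapPresheaf) z = 0 := by
      obtain ⟨e, he, heg⟩ := exists_stalkTensor (Coh32.lshOne U) F y
      intro z
      obtain ⟨w, rfl⟩ := he.2 z
      induction w using TensorProduct.induction_on with
      | zero => rw [map_zero]; exact map_zero _
      | add a b ha hb => rw [map_add]; exact (map_add _ _ _).trans (by rw [ha, hb, add_zero])
      | tmul c m =>
        obtain ⟨r, rfl⟩ := ((isFrame_lshSec U).germ_bijective hyU).2 c
        dsimp only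
        rw [TensorProduct.smul_tmul]
        generalize r • m = m'
        obtain ⟨W₁, h₁, a, rfl⟩ := TopCat.Presheaf.exists_germ_eq F.presheaf (x := y) m'
        have hy' : y ∈ W₁ ⊓ U := ⟨h₁, hyU⟩
        rw [← InvX.germ_res' (inf_le_left : W₁ ⊓ U ≤ W₁) hy' a,
          ← InvX.germ_res' (inf_le_right : W₁ ⊓ U ≤ U) hy' (Coh32.lshSec U), heg]
        refine (TopCat.Presheaf.stalkFunctor_map_germ_apply (W₁ ⊓ U) y hy' ψ.mapPresheaf _).trans ?_
        exact (congrArg _ (h _ inf_le_right _)).trans (map_zero _)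
    exact (TopCat.Presheaf.stalkFunctor_map_germ_apply W y hy ψ.mapPresheaf t).symm.trans (key _)
  · have hz := ModuleCat.isZero_iff_subsingleton.1
      (KFlatLib.isZero_stalk_tensor_left y _ F (KFlatLib.isZero_stalk_lsh U.ι y
        (by rwa [← Scheme.Hom.coe_opensRange, Scheme.Opens.opensRange_ι]) (Coh.structureModule U.toScheme)))
    refine (TopCat.Presheaf.stalkFunctor_map_germ_apply W y hy ψ.mapPresheaf t).symm.trans ?_
    exact (congrArg _ (hz.elim ((T F U).presheaf.germ W y hy t) 0)).trans (map_zero _)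

/-- A section of the sheaf of homomorphisms evaluating to zero is zero. -/
theorem evs_ext {U : X.Opens} (s s' : Γ(H F G, U))
    (h : ∀ (W : X.Opens) (hW : W ≤ U) (m : Γ(F, W)), evs (res _ hW s) m = evs (res _ hW s') m) : s = s' := by
  suffices h0 : ∀ s : Γ(H F G, U), (∀ (W : X.Opens) (hW : W ≤ U) (m : Γ(F, W)), evs (res _ hW s) m = 0) → s = 0 by
    refine sub_eq_zero.1 (h0 _ fun W hW m => ?_)
    have h2 := evs_add_left (res (H F G) hW (s - s')) (res _ hW s') m
    rw [← map_add, sub_add_cancel, h W hW m] at h2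
    exact right_eq_add.1 h2
  intro s h
  obtain ⟨φ, rfl⟩ := (Coh32.bijective_app_lshSec U (H F G)).2 s
  suffices φ = 0 by rw [this]; rfl
  refine ((SheafHomX.adj F).homEquiv _ _).symm.injective ?_
  have h0 : ((SheafHomX.adj F).homEquiv _ _).symm (0 : Coh32.lshOne U ⟶ H F G) = 0 := by
    rw [Adjunction.homEquiv_counit, Functor.map_zero, zero_comp]
  rw [h0]
  refine hom_T_eq_zero _ fun W hW m => ?_
  rw [Adjunction.homEquiv_counit]
  refine Eq.trans ?_ (h W hW m)
  refine Eq.trans (congrArg (((SheafHomX.adj F).counit.app G).app W)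
    (tmul_map_left φ (res _ hW (Coh32.lshSec U)) m)) ?_
  rw [app_res]
  rfl

/-- Compatible linear maps on the opens below `U` come from a section of the sheaf of homomorphisms. -/
theorem exists_evs {U : X.Opens} (ψ : F.restrict U.ι ⟶ G.restrict U.ι) :
    ∃ s : Γ(H F G, U), ∀ (V : U.toScheme.Opens) (m : Γ(F, U.ι ''ᵁ V)),
      evs (res _ (U.ι_image_le V) s) m = ψ.app V m := by
  let w : ∀ V : U.toScheme.Opens, Γ(F, U.ι ''ᵁ V) → Γ(T F U, U.ι ''ᵁ V) := fun V m =>
    InvX.tmul (res _ (U.ι_image_le V) (Coh32.lshSec U)) m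
  let v : F.restrict U.ι ⟶ (T F U).restrict U.ι :=
    ⟨PresheafOfModules.homMk
      { app := fun V => AddCommGrpCat.ofHom
          { toFun := fun m => w V.unop m
            map_zero' := by
              have h := tmul_add_right (res _ (U.ι_image_le V.unop) (Coh32.lshSec U)) (0 : Γ(F, U.ι ''ᵁ V.unop)) 0
              rw [add_zero] at h
              exact left_eq_add.1 h
            map_add' := fun a b => tmul_add_right (res _ (U.ι_image_le V.unop) (Coh32.lshSec U)) (show Γ(F, U.ι ''ᵁ V.unop) from a) b }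
        naturality := fun V V' i => by
          refine AddCommGrpCat.ext fun m => ?_
          show InvX.tmul _ (res F (U.ι.image_mono i.unop.le) m) =
            res (T F U) (U.ι.image_mono i.unop.le) (InvX.tmul _ m)
          rw [InvX.res_tmul, res_res] }
      fun V r m => InvX.tmul_smul_right _ _ _⟩
  haveI : IsIso v := by
    refine KFlatLib.isIso_of_stalk _ fun p => ?_
    have hb : Function.Bijective
        ((Scheme.Modules.toPresheaf U.toScheme ⋙ TopCat.Presheaf.stalkFunctor Ab.{u} p).map v) := by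
      obtain ⟨e, he, heg⟩ := exists_stalkTensor (Coh32.lshOne U) F (U.ι.base p)
      let c : (F.presheaf.stalk (U.ι.base p) : Type u) →+ (T F U).presheaf.stalk (U.ι.base p) :=
        { toFun := fun m => e ((Coh32.lshOne U).presheaf.germ U _ p.2 (Coh32.lshSec U) ⊗ₜ m)
          map_zero' := by rw [TensorProduct.tmul_zero]; exact map_zero e
          map_add' := fun a b => by rw [TensorProduct.tmul_add, map_add] }
      have hc : Function.Bijective c := by
        let f : (X.presheaf.stalk (U.ι.base p) : Type u) ≃ₗ[X.presheaf.stalk (U.ι.base p)]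
            (Coh32.lshOne U).presheaf.stalk (U.ι.base p) :=
          LinearEquiv.ofBijective (LinearMap.toSpanSingleton _ _ _)
            ((isFrame_lshSec U).germ_bijective p.2)
        have : ∀ m, c m = e ((TensorProduct.congr f (LinearEquiv.refl _ _)) ((TensorProduct.lid _ _).symm m)) :=
          fun m => by simp [c, f]
        rw [show (c : _ → _) = _ from funext this]
        exact he.comp ((TensorProduct.congr f (LinearEquiv.refl _ _)).bijective.comp
          (TensorProduct.lid _ _).symm.bijective)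
      let eF := ((Scheme.Modules.restrictStalkNatIso U.ι p).app F).addCommGroupIsoToAddEquiv
      let eT := ((Scheme.Modules.restrictStalkNatIso U.ι p).app (T F U)).addCommGroupIsoToAddEquiv
      have key : ∀ z, eT (((Scheme.Modules.toPresheaf U.toScheme ⋙ TopCat.Presheaf.stalkFunctor Ab.{u} p).map v) z) =
          c (eF z) := by
        intro z
        obtain ⟨V, hV, m, rfl⟩ := TopCat.Presheaf.exists_germ_eq (F.restrict U.ι).presheaf (x := p) z
        refine Eq.trans (congrArg eT (TopCat.Presheaf.stalkFunctor_map_germ_apply V p hV v.mapPresheaf m)) ?_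
        refine Eq.trans (ConcreteCategory.congr_hom
          (Scheme.Modules.germ_restrictStalkNatIso_hom_app U.ι p (T F U) hV) (v.app V m)) ?_
        refine Eq.trans ?_ (congrArg c (ConcreteCategory.congr_hom
          (Scheme.Modules.germ_restrictStalkNatIso_hom_app U.ι p F hV) m)).symm
        show (T F U).presheaf.germ _ _ _ (InvX.tmul _ _) = e (_ ⊗ₜ F.presheaf.germ _ _ _ m)
        rw [← heg, InvX.germ_res']
        rfl
      have : (fun z => ((Scheme.Modules.toPresheaf U.toScheme ⋙ TopCat.Presheaf.stalkFunctor Ab.{u} p).map v) z) =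
          eT.symm ∘ c ∘ eF := funext fun z => eT.eq_symm_apply.2 (key z)
      show Function.Bijective fun z => ((Scheme.Modules.toPresheaf U.toScheme ⋙
        TopCat.Presheaf.stalkFunctor Ab.{u} p).map v) z
      rw [this]
      exact eT.symm.bijective.comp (hc.comp eF.bijective)
    exact (ConcreteCategory.isIso_iff_bijective _).2 hb
  haveI : IsIso ((lshAdj U.ι).counit.app (T F U)) := isIso_counit_lsh U.ι _ fun y hy =>
    KFlatLib.isZero_stalk_tensor_left y _ _ (KFlatLib.isZero_stalk_lsh U.ι y hy _)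
  let φ : T F U ⟶ G := inv ((lshAdj U.ι).counit.app (T F U)) ≫
    ((lshAdj U.ι).homEquiv _ _).symm (inv v ≫ ψ)
  have hφ : (Scheme.Modules.restrictFunctor U.ι).map φ = inv v ≫ ψ := by
    refine Eq.trans (b := (lshAdj U.ι).homEquiv _ _ (((lshAdj U.ι).homEquiv _ _).symm (inv v ≫ ψ))) ?_
      (Equiv.apply_symm_apply _ _)
    rw [Adjunction.homEquiv_unit, Functor.map_comp]
    congr 1
    rw [Functor.map_inv]
    exact IsIso.inv_eq_of_inv_hom_id ((lshAdj U.ι).right_triangle_components (T F U))
  refine ⟨((SheafHomX.adj F).homEquiv _ _ φ).app U (Coh32.lshSec U), fun V m => ?_⟩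
  rw [← app_res]
  refine Eq.trans (congrArg (((SheafHomX.adj F).counit.app G).app _)
    (tmul_map_left ((SheafHomX.adj F).homEquiv _ _ φ) _ m).symm) ?_
  have h1 : (SheafHomX.ten F).map ((SheafHomX.adj F).homEquiv _ _ φ) ≫ (SheafHomX.adj F).counit.app G = φ :=
    ((SheafHomX.adj F).homEquiv_counit _ _ _).symm.trans (Equiv.symm_apply_apply _ _)
  refine (congrArg (fun χ => χ.app (U.ι ''ᵁ V) (w V m)) h1).trans ?_
  show ((Scheme.Modules.restrictFunctor U.ι).map φ).app V (w V m) = _
  rw [hφ]
  exact congrArg (ψ.app V) (congrArg (fun χ => χ.app V m) (IsIso.hom_inv_id v))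

end Lsh

end Groth.Agent.ProjDualR.ExtSh
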