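import Groth.Prelude.Def_ModSite2
import Groth.Prelude.Def_DerSch
import Groth.Agent.QCoh.Stalk
import Mathlib.Topology.Sheaves.Points
import Mathlib.Algebra.Category.ModuleCat.ChangeOfRings

/-!
Stalks at points of the site of opens and stalks of presheaves.
-/

set_option linter.style.haveILetI false
set_option backward.isDefEq.respectTransparency false
set_option backward.isDefEq.respectTransparency.types false

universe u

open CategoryTheory CategoryTheory.Limits AlgebraicGeometry TopologicalSpace Opposite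

noncomputable section

namespace Groth.Agent.ProjDualR.ExtSh

variable {X : Scheme.{u}} (x : X)

local notation "pt" => Opens.pointGrothendieckTopology x

section Gen

variable {A : Type*} [Category A] {FC : A → A → Type*} {CC : A → Type u}
  [∀ (X Y : A), FunLike (FC X Y) (CC X) (CC Y)] [ConcreteCategory.{u} A FC] [HasColimitsOfSize.{u, u} A]
  [PreservesFilteredColimitsOfSize.{u, u} (forget A)]

/-- The comparison map. -/
def cmp (P : X.Opensᵒᵖ ⥤ A) : (pt).presheafFiber.obj P ⟶ TopCat.Presheaf.stalk P x :=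
  (pt).presheafFiberDesc (fun U hU => TopCat.Presheaf.germ P U x hU.down.down)
    (fun {U V} f hU => TopCat.Presheaf.germ_res P f x hU.down.down)

theorem cmp_germ (P : X.Opensᵒᵖ ⥤ A) (U : X.Opens) (hU : (pt).fiber.obj U) (z : ToType (P.obj (op U))) :
    cmp x P ((pt).toPresheafFiber U hU P z) = TopCat.Presheaf.germ P U x hU.down.down z := by
  rw [← ConcreteCategory.comp_apply]
  exact ConcreteCategory.congr_hom ((pt).toPresheafFiber_presheafFiberDesc _ _ U hU) z

theorem cmp_bijective (P : X.Opensᵒᵖ ⥤ A) : Function.Bijective (cmp x P) := by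
  refine ⟨fun a b h => ?_, fun c => ?_⟩
  · obtain ⟨U, hU, z₁, z₂, rfl, rfl⟩ := (pt).toPresheafFiber_jointly_surjective₂ a b
    rw [cmp_germ, cmp_germ] at h
    obtain ⟨W, hW, i, j, hij⟩ := TopCat.Presheaf.germ_eq P x hU.down.down hU.down.down z₁ z₂ h
    refine ((pt).toPresheafFiber_eq_iff' U hU z₁ z₂).2 ⟨W, i, ⟨⟨hW⟩⟩, Subsingleton.elim _ _, ?_⟩
    rw [hij, Subsingleton.elim j i]
  · obtain ⟨U, hU, z, rfl⟩ := TopCat.Presheaf.exists_germ_eq P c
    exact ⟨(pt).toPresheafFiber U ⟨⟨hU⟩⟩ P z, cmp_germ x P U _ z⟩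

end Gen

/-- The ring of germs at the point of the site is the local ring. -/
def ρ : ModSite.stalkRing (pt) X.sheaf ≃+* X.presheaf.stalk x :=
  RingEquiv.ofBijective (cmp x X.sheaf.obj).hom (cmp_bijective x X.sheaf.obj)

/-- The germs of a module at the point of the site are its stalk. -/
def σ (F : X.Modules) : ModSite.stalkAb (O := X.sheaf) (pt) F ≃+ F.presheaf.stalk x :=
  AddEquiv.ofBijective (cmp x (ModSite.toAb (O := X.sheaf) F).obj).hom (cmp_bijective x _)

theorem σ_smul (F : X.Modules) (r : ModSite.stalkRing (pt) X.sheaf) (m : ModSite.stalkAb (O := X.sheaf) (pt) F) :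
    σ x F (r • m) = ρ x r • σ x F m := by
  obtain ⟨U, hU, r, rfl⟩ := GrothendieckTopology.Point.toPresheafFiber_jointly_surjective (Φ := pt) (FC := fun R S : CommRingCat.{u} => R →+* S) (P := X.sheaf.obj) r
  obtain ⟨V, hV, m, rfl⟩ := GrothendieckTopology.Point.toPresheafFiber_jointly_surjective (Φ := pt) (FC := fun R S : AddCommGrpCat.{u} => R →+ S) (P := (ModSite.toAb (O := X.sheaf) F).obj) m
  let hW : (pt).fiber.obj (U ⊓ V) := ⟨⟨⟨hU.down.down, hV.down.down⟩⟩⟩
  rw [show hU = (pt).fiber.map (homOfLE (inf_le_left : U ⊓ V ≤ U)) hW from Subsingleton.elim _ _,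
    show hV = (pt).fiber.map (homOfLE (inf_le_right : U ⊓ V ≤ V)) hW from Subsingleton.elim _ _,
    ← (pt).toPresheafFiber_w_apply, ← (pt).toPresheafFiber_w_apply]
  refine Eq.trans (congrArg (σ x F) (ModSite.germ_smul (O := X.sheaf) (pt) F (U ⊓ V) hW _ _).symm) ?_
  refine (cmp_germ x (ModSite.toAb (O := X.sheaf) F).obj _ hW _).trans ?_
  refine (QCoh.germ_smul' F (U := U ⊓ V) ⟨hU.down.down, hV.down.down⟩ _ _).trans ?_
  exact congrArg₂ (· • ·) (cmp_germ x X.sheaf.obj _ hW _).symm
    (cmp_germ x (ModSite.toAb (O := X.sheaf) F).obj _ hW _).symm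

/-- The module of germs at the point of the site, over the ring of germs. -/
def stalkIso (F : X.Modules) :
    ModSite.stalkMod (O := X.sheaf) (pt) F ≅
      (ModuleCat.restrictScalars (ρ x).toRingHom).obj ((DerSch.stalkFunctor X x).obj F) :=
  LinearEquiv.toModuleIso
    (X₁ := ModSite.stalkAb (O := X.sheaf) (pt) F)
    (X₂ := (ModuleCat.restrictScalars (ρ x).toRingHom).obj ((DerSch.stalkFunctor X x).obj F))
    { σ x F with map_smul' := fun r m => σ_smul x F r m }

end Groth.Agent.ProjDualR.ExtSh
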