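import Groth.Agent.ProjDualR.ExtSh.StalkHom
import Groth.Agent.ProjDualR.ExtSh.StalkCmp
import Groth.Agent.ProjDualR.ExtSh.HomDerived
import Groth.Agent.Coh32.InjStalk
import Groth.Agent.KFlatLib.Scheme.Exact
import Groth.Agent.SiteBase.DerivedComp
import Groth.Agent.SiteBase.DerivedPrecomp
import Groth.Agent.SiteBase.Rpush
import Groth.Agent.SpObjSS.SiteLeray
import Mathlib.Algebra.Module.Injective

/-!
Stalks of the sheaves `Ext^i(F, G)` for coherent `F`.
-/

set_option linter.style.haveILetI false
set_option linter.unusedSectionVars false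
set_option backward.isDefEq.respectTransparency false
set_option backward.isDefEq.respectTransparency.types false
set_option maxHeartbeats 400000

universe u

open CategoryTheory CategoryTheory.Limits AlgebraicGeometry TopologicalSpace Opposite

noncomputable section

namespace Groth.Agent.ProjDualR.ExtSh

open Groth.Agent

variable {X : Scheme.{u}}

/-- The internal homs of `ModSite` and `SheafHomX` agree. -/
def sheafHomIso (F : X.Modules) [ModSite.HasSheafHom (O := X.sheaf) F] :
    (ModSite.sheafHom (O := X.sheaf) F : X.Modules ⥤ X.Modules) ≅ SheafHomX.hom F :=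
  (ModSite.sheafHomAdj (O := X.sheaf) F).rightAdjointUniq
    ((SheafHomX.adj F).ofNatIsoLeft (Iso.refl ((ModSite.tensorBi X.sheaf).flip.obj F : X.Modules ⥤ X.Modules)))

/-- Isomorphisms induce linear equivalences on Ext. -/
def extLinearEquiv {R : Type u} [CommRing R] {A A' B B' : ModuleCat.{u} R} (a : A ≅ A') (b : B ≅ B') (i : ℕ) :
    Abelian.Ext A B i ≃ₗ[R] Abelian.Ext A' B' i where
  toFun z := ((Abelian.Ext.mk₀ a.inv).comp z (zero_add i)).comp (Abelian.Ext.mk₀ b.hom) (add_zero i)
  invFun z := ((Abelian.Ext.mk₀ a.hom).comp z (zero_add i)).comp (Abelian.Ext.mk₀ b.inv) (add_zero i)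
  map_add' y z := by rw [Abelian.Ext.comp_add, Abelian.Ext.add_comp]
  map_smul' r z := by rw [Abelian.Ext.comp_smul, Abelian.Ext.smul_comp]; rfl
  left_inv z := by simp
  right_inv z := by simp

variable (x : X)

local notation "RR" => ModSite.stalkRing (Opens.pointGrothendieckTopology x) X.sheaf

/-- The stalk, as a module over the ring of germs at the point of the site. -/
abbrev stR : X.Modules ⥤ ModuleCat.{u} RR :=
  DerSch.stalkFunctor X x ⋙ ModuleCat.restrictScalars (ρ x).toRingHom

/-- `Hom(F, -)_x ≅ Hom(F_x, (-)_x)`. -/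
def homStIso [IsLocallyNoetherian X] {F : X.Modules} (hF : Coh.IsCoh F) :
    SheafHomX.hom F ⋙ stR x ≅ stR x ⋙ homL ((stR x).obj F) :=
  NatIso.ofComponents
    (fun G => LinearEquiv.toModuleIso
      (X₁ := (stR x).obj (H F G)) (X₂ := ((stR x).obj F ⟶ (stR x).obj G))
      (LinearEquiv.ofBijective
        ({ toFun := fun c => (ModuleCat.restrictScalars (ρ x).toRingHom).map (ModuleCat.ofHom (θ F G x c))
           map_add' := fun a b => ModuleCat.hom_ext (LinearMap.ext fun m =>
            LinearMap.congr_fun (map_add (θ F G x) a b) m)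
           map_smul' := fun r a => ModuleCat.hom_ext (LinearMap.ext fun m =>
            LinearMap.congr_fun (map_smul (θ F G x) (ρ x r) (show (H F G).presheaf.stalk x from a)) m) } :
          ((stR x).obj (H F G) : Type u) →ₗ[RR] ((stR x).obj F ⟶ (stR x).obj G))
        ⟨fun a b h => θ_injective hF x (LinearMap.ext fun m => LinearMap.congr_fun (congrArg ModuleCat.Hom.hom h) m),
          fun g => by
            obtain ⟨g', rfl⟩ := (ModuleCat.restrictScalars (ρ x).toRingHom).map_surjective g
            obtain ⟨c, hc⟩ := θ_surjective hF x g'.hom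
            exact ⟨c, congrArg (ModuleCat.restrictScalars (ρ x).toRingHom).map
              (ModuleCat.hom_ext hc : ModuleCat.ofHom (θ F G x c) = g')⟩⟩))
    fun {G G'} g => ModuleCat.hom_ext (LinearMap.ext fun c =>
      ModuleCat.hom_ext (LinearMap.ext fun m => LinearMap.congr_fun (θ_natural g x c) m))

theorem preservesInjectiveObjects_stR [IsLocallyNoetherian X] : (stR x).PreservesInjectiveObjects :=
  ⟨fun {Q} hQ => by
    haveI h1 : Injective ((DerSch.stalkFunctor X x).obj Q) := by
      haveI := (Coh32.baer_stalk_of_injective hQ x).injective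
      exact Module.injective_object_of_injective_module (X.presheaf.stalk x) (Q.presheaf.stalk x)
    exact Injective.injective_of_adjoint
      (ModuleCat.restrictScalarsEquivalenceOfRingEquiv (ρ x)).symm.toAdjunction ((DerSch.stalkFunctor X x).obj Q)⟩

/-- The stalk of `Ext^i(F, G)` is `Ext^i` of the stalks. -/
theorem nonempty_stalk_extSh [IsLocallyNoetherian X] (F G : X.Modules) (hF : Coh.IsCoh F)
    [ModSite.HasSheafHom (O := X.sheaf) F] [HasInjectiveResolutions (ModSite.Mod X.sheaf)] (i : ℕ) :
    Nonempty (ModSite.stalkMod (Opens.pointGrothendieckTopology x) ((ModSite.extSh (O := X.sheaf) F i).obj G)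
      ≃ₗ[RR]
      Abelian.Ext (ModSite.stalkMod (O := X.sheaf) (Opens.pointGrothendieckTopology x) F)
        (ModSite.stalkMod (O := X.sheaf) (Opens.pointGrothendieckTopology x) G) i) := by
  haveI hE : EnoughInjectives (ModSite.Mod X.sheaf) :=
    SpObjSS.enoughInjectives_of_hasInjectiveResolutions (C := ModSite.Mod X.sheaf)
  haveI : EnoughInjectives X.Modules := hE
  haveI := preservesInjectiveObjects_stR x
  haveI : (stR x).Additive := inferInstance
  haveI : (ModSite.sheafHom (O := X.sheaf) F : X.Modules ⥤ X.Modules).Additive :=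
    (ModSite.sheafHomAdj (O := X.sheaf) F).right_adjoint_additive
  haveI : PreservesFiniteLimits (ModuleCat.restrictScalars.{u} (ρ x).toRingHom) :=
    ⟨fun _ => inferInstance⟩
  haveI : PreservesFiniteColimits (ModuleCat.restrictScalars.{u} (ρ x).toRingHom) :=
    ⟨fun _ => inferInstance⟩
  haveI : PreservesFiniteLimits (stR x) := comp_preservesFiniteLimits _ _
  haveI : PreservesFiniteColimits (stR x) := comp_preservesFiniteColimits _ _
  let e1 : ModSite.stalkMod (Opens.pointGrothendieckTopology x) ((ModSite.extSh (O := X.sheaf) F i).obj G) ≅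
      (stR x).obj (((SheafHomX.hom F).rightDerived i).obj G) :=
    stalkIso x _ ≪≫ (stR x).mapIso
      ((SiteBase.rightDerivedCongr (A := X.Modules) (B := X.Modules)
        (F := (ModSite.sheafHom (O := X.sheaf) F : X.Modules ⥤ X.Modules)) (G := SheafHomX.hom F) (sheafHomIso F) i).app G)
  let e2 : (stR x).obj (((SheafHomX.hom F).rightDerived i).obj G) ≅
      ((homL ((stR x).obj F)).rightDerived i).obj ((stR x).obj G) :=
    (SiteBase.rightDerivedCompIso (SheafHomX.hom F) (stR x) i).symm.app G ≪≫
      (SiteBase.rightDerivedCongr (homStIso x hF) i).app G ≪≫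
      (SiteBase.rightDerivedPrecompIso (stR x) (homL ((stR x).obj F)) i).app G
  obtain ⟨e3⟩ := exists_rightDerived_homL ((stR x).obj F) i ((stR x).obj G)
  exact ⟨((e1 ≪≫ e2).toLinearEquiv.trans e3).trans
    ((extLinearEquiv (stalkIso x F) (stalkIso x G) i).symm)⟩

end Groth.Agent.ProjDualR.ExtSh
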