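import Groth.Agent.ProjDualR.ExtSh.Restrict
import Groth.Agent.CurveCohLib.Proper

/-!
Stalks of `Ext^i(F, G)` as modules over the local rings of the scheme; a criterion for vanishing.
-/

set_option linter.style.haveILetI false
set_option linter.unusedSectionVars false
set_option backward.isDefEq.respectTransparency false
set_option backward.isDefEq.respectTransparency.types false
set_option maxHeartbeats 400000

universe u

open CategoryTheory CategoryTheory.Limits AlgebraicGeometry TopologicalSpace Opposite

noncomputable section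

namespace Groth.Agent.ProjDualR.ExtSh

open Groth.Agent

variable {X : Scheme.{u}} [IsLocallyNoetherian X] (x : X)

/-- `Hom(F, -)_x ≅ Hom(F_x, (-)_x)` over the local ring. -/
def homStalkIso {F : X.Modules} (hF : Coh.IsCoh F) :
    SheafHomX.hom F ⋙ DerSch.stalkFunctor X x ≅
      DerSch.stalkFunctor X x ⋙ homL ((DerSch.stalkFunctor X x).obj F) :=
  NatIso.ofComponents
    (fun G => LinearEquiv.toModuleIso
      (X₁ := (DerSch.stalkFunctor X x).obj (H F G))
      (X₂ := ((DerSch.stalkFunctor X x).obj F ⟶ (DerSch.stalkFunctor X x).obj G))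
      (LinearEquiv.ofBijective
        ({ toFun := fun c => ModuleCat.ofHom (θ F G x c)
           map_add' := fun a b => ModuleCat.hom_ext (map_add (θ F G x) a b)
           map_smul' := fun r a => ModuleCat.hom_ext (map_smul (θ F G x) r a) } :
          ((DerSch.stalkFunctor X x).obj (H F G) : Type u) →ₗ[X.presheaf.stalk x]
            ((DerSch.stalkFunctor X x).obj F ⟶ (DerSch.stalkFunctor X x).obj G))
        ⟨fun a b h => θ_injective hF x (congrArg ModuleCat.Hom.hom h),
          fun g => by
            obtain ⟨c, hc⟩ := θ_surjective hF x g.hom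
            exact ⟨c, ModuleCat.hom_ext hc⟩⟩))
    fun {G G'} g => ModuleCat.hom_ext (LinearMap.ext fun c =>
      ModuleCat.hom_ext (LinearMap.ext fun m => LinearMap.congr_fun (θ_natural g x c) m))

theorem preservesInjectiveObjects_stalk : (DerSch.stalkFunctor X x).PreservesInjectiveObjects :=
  ⟨fun {Q} hQ => by
    haveI := (Coh32.baer_stalk_of_injective hQ x).injective
    exact Module.injective_object_of_injective_module (X.presheaf.stalk x) (Q.presheaf.stalk x)⟩

/-- `Ext^i(F, G)_x = Ext^i(F_x, G_x)` over `O_{X,x}`. -/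
theorem nonempty_stalkFunctor_extSh (F G : X.Modules) (hF : Coh.IsCoh F)
    [ModSite.HasSheafHom (O := X.sheaf) F] [HasInjectiveResolutions (ModSite.Mod X.sheaf)] (i : ℕ) :
    Nonempty ((DerSch.stalkFunctor X x).obj ((ModSite.extSh (O := X.sheaf) F i).obj G) ≃ₗ[X.presheaf.stalk x]
      Abelian.Ext ((DerSch.stalkFunctor X x).obj F) ((DerSch.stalkFunctor X x).obj G) i) := by
  haveI := enoughInjectives_modules X
  haveI := preservesInjectiveObjects_stalk x
  haveI : (DerSch.stalkFunctor X x).Additive := inferInstance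
  obtain ⟨a⟩ := nonempty_extSh_iso_rightDerived F i G
  let e2 : (DerSch.stalkFunctor X x).obj ((ModSite.extSh (O := X.sheaf) F i).obj G) ≅
      ((homL ((DerSch.stalkFunctor X x).obj F)).rightDerived i).obj ((DerSch.stalkFunctor X x).obj G) :=
    (DerSch.stalkFunctor X x).mapIso a ≪≫
    (SiteBase.rightDerivedCompIso (SheafHomX.hom F) (DerSch.stalkFunctor X x) i).symm.app G ≪≫
      (SiteBase.rightDerivedCongr (homStalkIso x hF) i).app G ≪≫
      (SiteBase.rightDerivedPrecompIso (DerSch.stalkFunctor X x) (homL ((DerSch.stalkFunctor X x).obj F)) i).app G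
  obtain ⟨e3⟩ := exists_rightDerived_homL ((DerSch.stalkFunctor X x).obj F) i ((DerSch.stalkFunctor X x).obj G)
  exact ⟨e2.toLinearEquiv.trans e3⟩

omit x in
/-- `Ext^i(F, G)` vanishes if all the stalkwise `Ext^i` do. -/
theorem isZero_extSh_of_stalks (F G : X.Modules) (hF : Coh.IsCoh F)
    [ModSite.HasSheafHom (O := X.sheaf) F] [HasInjectiveResolutions (ModSite.Mod X.sheaf)] (i : ℕ)
    (h : ∀ x : X, Subsingleton (Abelian.Ext ((DerSch.stalkFunctor X x).obj F) ((DerSch.stalkFunctor X x).obj G) i)) :
    IsZero ((ModSite.extSh (O := X.sheaf) F i).obj G) := by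
  refine CurveCohLib.isZero_of_subsingleton_stalks (M := (ModSite.extSh (O := X.sheaf) F i).obj G) fun x => ?_
  obtain ⟨e⟩ := nonempty_stalkFunctor_extSh x F G hF i
  haveI := h x
  exact e.toEquiv.subsingleton

omit x in
/-- Conversely. -/
theorem subsingleton_stalk_ext_of_isZero (F G : X.Modules) (hF : Coh.IsCoh F)
    [ModSite.HasSheafHom (O := X.sheaf) F] [HasInjectiveResolutions (ModSite.Mod X.sheaf)] (i : ℕ)
    (h : IsZero ((ModSite.extSh (O := X.sheaf) F i).obj G)) (x : X) :
    Subsingleton (Abelian.Ext ((DerSch.stalkFunctor X x).obj F) ((DerSch.stalkFunctor X x).obj G) i) := by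
  obtain ⟨e⟩ := nonempty_stalkFunctor_extSh x F G hF i
  haveI := ModuleCat.subsingleton_of_isZero ((DerSch.stalkFunctor X x).map_isZero h)
  exact e.symm.toEquiv.subsingleton

end Groth.Agent.ProjDualR.ExtSh
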