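import Groth.Agent.ProjDualR.ExtSh.HomSections
import Groth.Agent.QCoh.Stalk
import Groth.Agent.QCoh.Local
import Mathlib.LinearAlgebra.Isomorphisms

/-!
Stalks of the sheaf of homomorphisms out of a coherent module.
-/

set_option linter.style.haveILetI false
set_option linter.unusedSectionVars false
set_option backward.isDefEq.respectTransparency false
set_option backward.isDefEq.respectTransparency.types false
set_option maxHeartbeats 400000

universe u

open CategoryTheory CategoryTheory.Limits AlgebraicGeometry TopologicalSpace Opposite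
open scoped TensorProduct

noncomputable section

namespace Groth.Agent.ProjDualR.ExtSh

open Groth.Agent Groth.Agent.AModX

variable {X : Scheme.{u}} {F G G' : X.Modules}

/-- A morphism on stalks, as a linear map. -/
def stMap {M N : X.Modules} (φ : M ⟶ N) (x : X) :
    (M.presheaf.stalk x : Type u) →ₗ[X.presheaf.stalk x] N.presheaf.stalk x :=
  ((DerSch.stalkFunctor X x).map φ).hom

theorem stMap_germ {M N : X.Modules} (φ : M ⟶ N) {U : X.Opens} {x : X} (hx : x ∈ U) (s : Γ(M, U)) :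
    stMap φ x (M.presheaf.germ U x hx s) = N.presheaf.germ U x hx (φ.app U s) :=
  TopCat.Presheaf.stalkFunctor_map_germ_apply U x hx φ.mapPresheaf s

variable (F G) in
/-- `Hom(F, G)_x → Hom(F_x, G_x)`. -/
def θ (x : X) : ((H F G).presheaf.stalk x : Type u) →ₗ[X.presheaf.stalk x]
    ((F.presheaf.stalk x : Type u) →ₗ[X.presheaf.stalk x] G.presheaf.stalk x) :=
  TensorProduct.curry (stMap ((SheafHomX.adj F).counit.app G) x ∘ₗ (exists_stalkTensor (H F G) F x).choose)

theorem θ_germ {x : X} {W : X.Opens} (hx : x ∈ W) (s : Γ(H F G, W)) (m : Γ(F, W)) :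
    θ F G x ((H F G).presheaf.germ W x hx s) (F.presheaf.germ W x hx m) = G.presheaf.germ W x hx (evs s m) := by
  show stMap ((SheafHomX.adj F).counit.app G) x ((exists_stalkTensor (H F G) F x).choose (_ ⊗ₜ _)) = _
  rw [(exists_stalkTensor (H F G) F x).choose_spec.2 W hx s m]
  exact stMap_germ _ hx _

theorem θ_germ' {x : X} {W U : X.Opens} (h : W ≤ U) (hx : x ∈ W) (s : Γ(H F G, W)) (m : Γ(F, U)) :
    θ F G x ((H F G).presheaf.germ W x hx s) (F.presheaf.germ U x (h hx) m) =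
      G.presheaf.germ W x hx (evs s (res F h m)) := by
  rw [← θ_germ, InvX.germ_res']

theorem θ_natural (g : G ⟶ G') (x : X) (c : (H F G).presheaf.stalk x) :
    θ F G' x (stMap ((SheafHomX.hom F).map g) x c) = stMap g x ∘ₗ θ F G x c := by
  refine LinearMap.ext fun m => ?_
  obtain ⟨W₁, h₁, s, rfl⟩ := TopCat.Presheaf.exists_germ_eq (H F G).presheaf (x := x) c
  obtain ⟨W₂, h₂, m, rfl⟩ := TopCat.Presheaf.exists_germ_eq F.presheaf (x := x) m
  have hx : x ∈ W₁ ⊓ W₂ := ⟨h₁, h₂⟩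
  rw [← InvX.germ_res' (inf_le_left : W₁ ⊓ W₂ ≤ W₁) hx s, ← InvX.germ_res' (inf_le_right : W₁ ⊓ W₂ ≤ W₂) hx m,
    stMap_germ, LinearMap.comp_apply, θ_germ, θ_germ, stMap_germ, evs_map]

variable {U : X.Opens}

/-- Generators of the sections over an affine open generate the stalks. -/
theorem span_germ_eq_top (hF : Coh.IsQCoh F) (hU : IsAffineOpen U) {ι : Type*} (t : ι → Γ(F, U))
    (ht : Submodule.span Γ(X, U) (Set.range t) = ⊤) {y : X} (hy : y ∈ U) :
    Submodule.span (X.presheaf.stalk y) (Set.range fun i => F.presheaf.germ U y hy (t i)) = ⊤ := by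
  letI := QCoh.stalkAlg (X := X) hy
  letI := QCoh.stalkModule F hy
  haveI := QCoh.isScalarTower_stalk F hy
  haveI := QCoh.isLocalization_stalk' hU hy
  haveI := QCoh.isLocalizedModule_germLin hF hU hy
  have h1 : Submodule.localized' (X.presheaf.stalk y) (hU.primeIdealOf ⟨y, hy⟩).asIdeal.primeCompl
      (QCoh.germLin F hy) (Submodule.span Γ(X, U) (Set.range t)) = ⊤ := by
    rw [ht, Submodule.localized'_top]
  rw [Submodule.localized'_span, ← Set.range_comp] at h1
  exact h1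

theorem exists_common (x : X) {n : ℕ} (W : Fin n → X.Opens) (U : X.Opens) (hU : x ∈ U) (hW : ∀ i, x ∈ W i) :
    ∃ V : X.Opens, x ∈ V ∧ V ≤ U ∧ ∀ i, V ≤ W i := by
  refine ⟨U ⊓ Finset.univ.inf W, ⟨hU, ?_⟩, inf_le_left,
    fun i => inf_le_right.trans (Finset.inf_le (Finset.mem_univ i))⟩
  suffices h : ∀ t : Finset (Fin n), x ∈ t.inf W from h _
  intro t
  induction t using Finset.induction with
  | empty => simp
  | insert j t _ ih => rw [Finset.inf_insert]; exact ⟨hW j, ih⟩

theorem exists_zero_nhd {M : X.Modules} {W : X.Opens} {x : X} (hx : x ∈ W) (a : Γ(M, W))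
    (h : M.presheaf.germ W x hx a = 0) : ∃ (V : X.Opens) (hV : V ≤ W), x ∈ V ∧ res M hV a = 0 := by
  obtain ⟨V, hxV, i, _, h'⟩ := M.presheaf.germ_eq x hx hx a 0 (h.trans (map_zero _).symm)
  exact ⟨V, i.le, hxV, h'.trans (map_zero _)⟩

theorem θ_injective (hF : Coh.IsCoh F) (x : X) : Function.Injective (θ F G x) := by
  refine (injective_iff_map_eq_zero _).2 fun c hc => ?_
  obtain ⟨W₀, h₀, s₀, rfl⟩ := TopCat.Presheaf.exists_germ_eq (H F G).presheaf (x := x) c
  obtain ⟨_, ⟨U, hU, rfl⟩, hxU, -⟩ :=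
    X.isBasis_affineOpens.exists_subset_of_mem_open (Set.mem_univ x) isOpen_univ
  have hU' : IsAffineOpen U := hU
  haveI := (QCoh.isCoh_iff.1 hF).2 ⟨U, hU'⟩
  obtain ⟨n, t, ht⟩ := Submodule.fg_iff_exists_fin_generating_family.1 (Module.Finite.fg_top (R := Γ(X, U)) (M := Γ(F, U)))
  have hxW : x ∈ W₀ ⊓ U := ⟨h₀, hxU⟩
  have hz : ∀ i, G.presheaf.germ (W₀ ⊓ U) x hxW
      (evs (res (H F G) inf_le_left s₀) (res F (inf_le_right : W₀ ⊓ U ≤ U) (t i))) = 0 := fun i => by
    rw [← θ_germ' (inf_le_right : W₀ ⊓ U ≤ U) hxW, InvX.germ_res', hc]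
    rfl
  choose V hV hxV hV0 using fun i => exists_zero_nhd hxW _ (hz i)
  obtain ⟨Z, hxZ, hZW, hZ⟩ := exists_common x V _ hxW hxV
  suffices hs : res (H F G) (hZW.trans inf_le_left) s₀ = 0 by
    rw [← InvX.germ_res' (hZW.trans inf_le_left) hxZ s₀, hs, map_zero]
  refine evs_ext _ _ fun W hW m => ?_
  rw [map_zero (res (H F G) hW)]
  refine TopCat.Presheaf.section_ext ⟨G.presheaf, G.isSheaf⟩ W _ _ fun y hy => ?_
  have h2 : G.presheaf.germ W y hy (evs (0 : Γ(H F G, W)) m) = 0 := by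
    rw [← θ_germ, map_zero, map_zero]
    rfl
  refine Eq.trans ?_ h2.symm
  show G.presheaf.germ W y hy _ = 0
  rw [← θ_germ]
  have hspan : F.presheaf.germ W y hy m ∈ Submodule.span (X.presheaf.stalk y)
      (Set.range fun i => F.presheaf.germ U y (((hW.trans hZW).trans inf_le_right) hy) (t i)) :=
    (span_germ_eq_top hF.1 hU' t ht _).symm ▸ trivial
  refine LinearMap.eqOn_span (g := 0) ?_ hspan
  rintro _ ⟨i, rfl⟩
  rw [θ_germ' ((hW.trans hZW).trans inf_le_right) hy, LinearMap.zero_apply]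
  refine Eq.trans (congrArg (G.presheaf.germ W y hy) ?_) (map_zero _)
  have h3 := congrArg (res G (hW.trans (hZ i))) (hV0 i)
  rw [map_zero, res_res, res_evs, res_res, res_res] at h3
  rw [res_res]
  exact h3

/-- A family of stalk maps sending generators to germs of sections is induced by a morphism. -/
theorem exists_hom_of_stalks (hF : Coh.IsQCoh F) (hU : IsAffineOpen U) {n : ℕ} (t : Fin n → Γ(F, U))
    (ht : Submodule.span Γ(X, U) (Set.range t) = ⊤) {V : X.Opens} (hVU : V ≤ U) (g : Fin n → Γ(G, V))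
    (φ : ∀ y : X, y ∈ V → (F.presheaf.stalk y : Type u) →ₗ[X.presheaf.stalk y] G.presheaf.stalk y)
    (hφ : ∀ (y : X) (hy : y ∈ V) (i), φ y hy (F.presheaf.germ U y (hVU hy) (t i)) = G.presheaf.germ V y hy (g i)) :
    ∃ ψ : F.restrict V.ι ⟶ G.restrict V.ι, ∀ (Z : V.toScheme.Opens) (m : Γ(F, V.ι ''ᵁ Z)) (y : X)
      (hy : y ∈ V.ι ''ᵁ Z),
      G.presheaf.germ _ y hy (ψ.app Z m) = φ y (V.ι_image_le Z hy) (F.presheaf.germ _ y hy m) := by
  classical
  have hex : ∀ (W : X.Opens) (hW : W ≤ V) (m : Γ(F, W)), ∃ z : Γ(G, W), ∀ (y : X) (hy : y ∈ W),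
      G.presheaf.germ W y hy z = φ y (hW hy) (F.presheaf.germ W y hy m) := by
    intro W hW m
    have hloc : ∀ p : W, ∃ (Z : X.Opens) (hZ : Z ≤ W) (z : Γ(G, Z)), p.1 ∈ Z ∧ ∀ (y : X) (hy : y ∈ Z),
        G.presheaf.germ Z y hy z = φ y (hW (hZ hy)) (F.presheaf.germ W y (hZ hy) m) := fun p => by
      obtain ⟨c, hc⟩ := (Submodule.mem_span_range_iff_exists_fun _).1
        ((span_germ_eq_top hF hU t ht (hVU (hW p.2))).ge
          (Submodule.mem_top (x := F.presheaf.germ W p.1 p.2 m)))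
      choose Wc hWc a ha using fun i => X.presheaf.exists_germ_eq (x := p.1) (c i)
      obtain ⟨Z₀, hpZ, hZW, hZc⟩ := exists_common p.1 Wc W p.2 hWc
      let d : Γ(F, Z₀) := ∑ i, resR (hZc i) (a i) • res F ((hZW.trans hW).trans hVU) (t i) - res F hZW m
      have hd : F.presheaf.germ Z₀ p.1 hpZ d = 0 := by
        rw [map_sub, map_sum, InvX.germ_res', ← hc, sub_eq_zero]
        refine Finset.sum_congr rfl fun i _ => ?_
        rw [QCoh.germ_smul', InvX.germ_resR', InvX.germ_res', ha]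
      obtain ⟨Z, hZ, hpZ', hd0⟩ := exists_zero_nhd hpZ d hd
      refine ⟨Z, hZ.trans hZW, ∑ i, resR (hZ.trans (hZc i)) (a i) • res G (hZ.trans (hZW.trans hW)) (g i),
        hpZ', fun y hy => ?_⟩
      have h1 := congrArg (F.presheaf.germ Z y hy) hd0
      rw [InvX.germ_res', map_zero, map_sub, map_sum, sub_eq_zero, InvX.germ_res'] at h1
      rw [← h1, map_sum, map_sum]
      refine Finset.sum_congr rfl fun i _ => ?_
      rw [QCoh.germ_smul', QCoh.germ_smul', map_smul, InvX.germ_res', InvX.germ_res', InvX.germ_resR',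
        InvX.germ_resR', hφ]
    choose Z hZ z hpZ hz using hloc
    obtain ⟨z₀, hz₀, -⟩ := existsUnique_glue (M := G) Z hZ (fun p hp => ⟨⟨p, hp⟩, hpZ _⟩) z fun p q =>
      TopCat.Presheaf.section_ext ⟨G.presheaf, G.isSheaf⟩ _ _ _ fun y hy => by
        show G.presheaf.germ _ y hy _ = G.presheaf.germ _ y hy _
        rw [InvX.germ_res', InvX.germ_res', hz, hz]
    refine ⟨z₀, fun y hy => ?_⟩
    rw [← InvX.germ_res' (hZ ⟨y, hy⟩) (hpZ ⟨y, hy⟩) z₀, hz₀, hz]
  choose Φ hΦ using hex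
  have hadd : ∀ (W : X.Opens) (hW : W ≤ V) (a b : Γ(F, W)), Φ W hW (a + b) = Φ W hW a + Φ W hW b := by
    intro W hW a b
    refine TopCat.Presheaf.section_ext ⟨G.presheaf, G.isSheaf⟩ _ _ _ fun y hy => ?_
    show G.presheaf.germ _ y hy _ = G.presheaf.germ _ y hy _
    simp only [map_add, hΦ]
  have hres : ∀ (W W' : X.Opens) (hW : W ≤ V) (h : W' ≤ W) (a : Γ(F, W)),
      Φ W' (h.trans hW) (res F h a) = res G h (Φ W hW a) := by
    intro W W' hW h a
    refine TopCat.Presheaf.section_ext ⟨G.presheaf, G.isSheaf⟩ _ _ _ fun y hy => ?_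
    show G.presheaf.germ _ y hy _ = G.presheaf.germ _ y hy _
    rw [hΦ, InvX.germ_res', InvX.germ_res', hΦ]
  have hsmul : ∀ (W : X.Opens) (hW : W ≤ V) (r : Γ(X, W)) (a : Γ(F, W)), Φ W hW (r • a) = r • Φ W hW a := by
    intro W hW r a
    refine TopCat.Presheaf.section_ext ⟨G.presheaf, G.isSheaf⟩ _ _ _ fun y hy => ?_
    show G.presheaf.germ _ y hy _ = G.presheaf.germ _ y hy _
    rw [QCoh.germ_smul', hΦ, hΦ, QCoh.germ_smul', map_smul]
  exact ⟨⟨PresheafOfModules.homMk
    { app := fun Z => AddCommGrpCat.ofHom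
        (AddMonoidHom.mk' (fun m => Φ _ (V.ι_image_le Z.unop) m) fun a b => hadd _ _ a b)
      naturality := fun Z Z' i => AddCommGrpCat.ext fun m =>
        hres _ _ (V.ι_image_le Z.unop) (V.ι.image_mono i.unop.le) m }
    fun Z r m => hsmul _ (V.ι_image_le Z.unop) ((V.ι.appIso Z.unop).inv.hom r) m⟩,
    fun Z m y hy => hΦ _ _ m y hy⟩

theorem θ_surjective [IsLocallyNoetherian X] (hF : Coh.IsCoh F) (x : X) : Function.Surjective (θ F G x) := by
  classical
  intro f
  obtain ⟨_, ⟨U, hU, rfl⟩, hxU, -⟩ :=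
    X.isBasis_affineOpens.exists_subset_of_mem_open (Set.mem_univ x) isOpen_univ
  have hU' : IsAffineOpen U := hU
  haveI : IsNoetherianRing Γ(X, U) := IsLocallyNoetherian.component_noetherian ⟨U, hU'⟩
  haveI := (QCoh.isCoh_iff.1 hF).2 ⟨U, hU'⟩
  obtain ⟨n, t, ht⟩ := Submodule.fg_iff_exists_fin_generating_family.1 (Module.Finite.fg_top (R := Γ(X, U)) (M := Γ(F, U)))
  choose W₁ hW₁ g₁ hg₁ using fun i => TopCat.Presheaf.exists_germ_eq G.presheaf (x := x)
    (f (F.presheaf.germ U x hxU (t i)))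
  obtain ⟨W, hxW, hWU, hW⟩ := exists_common x W₁ U hxU hW₁
  let π : (Fin n → Γ(X, U)) →ₗ[Γ(X, U)] Γ(F, U) := Fintype.linearCombination Γ(X, U) t
  have hπ : Function.Surjective π := by
    rw [← LinearMap.range_eq_top, Fintype.range_linearCombination, ht]
  obtain ⟨m, r, hr⟩ := Submodule.fg_iff_exists_fin_generating_family.1 (IsNoetherian.noetherian (LinearMap.ker π))
  have hz : ∀ k, G.presheaf.germ W x hxW (∑ i, resR hWU (r k i) • res G (hW i) (g₁ i)) = 0 := fun k => by
    have h1 : π (r k) = 0 := show r k ∈ LinearMap.ker π from hr ▸ Submodule.subset_span (Set.mem_range_self k)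
    rw [Fintype.linearCombination_apply] at h1
    have h2 := congrArg f (congrArg (F.presheaf.germ U x hxU) h1)
    rw [map_sum, map_zero, map_zero, map_sum] at h2
    rw [map_sum]
    refine Eq.trans (Finset.sum_congr rfl fun i _ => ?_) h2
    rw [QCoh.germ_smul', QCoh.germ_smul', InvX.germ_resR', InvX.germ_res', map_smul, hg₁]
  choose V₁ hV₁ hxV₁ hV₁0 using fun k => exists_zero_nhd hxW _ (hz k)
  obtain ⟨V, hxV, hVW, hV⟩ := exists_common x V₁ W hxW hxV₁
  let g : Fin n → Γ(G, V) := fun i => res G (hVW.trans (hW i)) (g₁ i)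
  have hφ : ∀ (y : X) (hy : y ∈ V), ∃ φ : (F.presheaf.stalk y : Type u) →ₗ[X.presheaf.stalk y] G.presheaf.stalk y,
      ∀ i, φ (F.presheaf.germ U y ((hVW.trans hWU) hy) (t i)) = G.presheaf.germ V y hy (g i) := by
    intro y hy
    have hyU : y ∈ U := (hVW.trans hWU) hy
    letI := QCoh.stalkAlg (X := X) hyU
    letI := QCoh.stalkModule F hyU
    letI := QCoh.stalkModule G hyU
    haveI := QCoh.isScalarTower_stalk F hyU
    haveI := QCoh.isScalarTower_stalk G hyU
    haveI := QCoh.isLocalization_stalk' hU' hyU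
    haveI := QCoh.isLocalizedModule_germLin hF.1 hU' hyU
    let S := (hU'.primeIdealOf ⟨y, hyU⟩).asIdeal.primeCompl
    let π' : (Fin n → Γ(X, U)) →ₗ[Γ(X, U)] G.presheaf.stalk y :=
      Fintype.linearCombination Γ(X, U) fun i => G.presheaf.germ V y hy (g i)
    have hle : LinearMap.ker π ≤ LinearMap.ker π' := by
      rw [← hr, Submodule.span_le]
      rintro _ ⟨k, rfl⟩
      rw [SetLike.mem_coe, LinearMap.mem_ker, Fintype.linearCombination_apply]
      have h1 := congrArg (G.presheaf.germ (V₁ k) y (hV k hy)) (hV₁0 k)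
      rw [InvX.germ_res', map_zero, map_sum] at h1
      refine Eq.trans (Finset.sum_congr rfl fun i _ => ?_) h1
      show X.presheaf.germ U y hyU (r k i) • G.presheaf.germ V y hy (res G _ (g₁ i)) = _
      rw [QCoh.germ_smul', InvX.germ_resR', InvX.germ_res', InvX.germ_res']
    let L : Γ(F, U) →ₗ[Γ(X, U)] G.presheaf.stalk y :=
      (LinearMap.ker π).liftQ π' hle ∘ₗ (π.quotKerEquivOfSurjective hπ).symm.toLinearMap
    have hL : ∀ i, L (t i) = G.presheaf.germ V y hy (g i) := fun i => by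
      have h1 : π (Pi.single i 1) = t i := by simp [π, Fintype.linearCombination_apply_single]
      rw [← h1]
      show (LinearMap.ker π).liftQ π' hle ((π.quotKerEquivOfSurjective hπ).symm (π _)) = _
      rw [LinearMap.quotKerEquivOfSurjective_symm_apply, Submodule.liftQ_apply]
      simp [π', Fintype.linearCombination_apply_single]
    have hunit : ∀ s : S, IsUnit (algebraMap Γ(X, U) (Module.End Γ(X, U) (G.presheaf.stalk y)) s) := fun s => by
      rw [Module.End.isUnit_iff]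
      have hu : IsUnit (algebraMap Γ(X, U) (X.presheaf.stalk y) s) := IsLocalization.map_units _ s
      have heq : ⇑(algebraMap Γ(X, U) (Module.End Γ(X, U) (G.presheaf.stalk y)) s) = fun v => hu.unit • v :=
        funext fun v => (IsScalarTower.algebraMap_smul (X.presheaf.stalk y) (s : Γ(X, U)) v).symm
      rw [heq]
      exact MulAction.bijective hu.unit
    let φ₀ := IsLocalizedModule.lift S (QCoh.germLin F hyU) L hunit
    refine ⟨φ₀.extendScalarsOfIsLocalization S (X.presheaf.stalk y), fun i => ?_⟩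
    exact (IsLocalizedModule.lift_apply S (QCoh.germLin F hyU) L hunit (t i)).trans (hL i)
  choose φ hφ using hφ
  obtain ⟨ψ, hψ⟩ := exists_hom_of_stalks hF.1 hU' t ht (hVW.trans hWU) g φ hφ
  obtain ⟨s, hs⟩ := exists_evs ψ
  refine ⟨(H F G).presheaf.germ V x hxV s, ?_⟩
  refine LinearMap.ext_on_range (span_germ_eq_top hF.1 hU' t ht hxU) fun i => ?_
  let Z : V.toScheme.Opens := ⊤
  have hxZ : x ∈ V.ι ''ᵁ Z := by rw [Scheme.Hom.image_top_eq_opensRange, Scheme.Opens.opensRange_ι]; exact hxV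
  rw [← InvX.germ_res' (V.ι_image_le Z) hxZ s, θ_germ' ((V.ι_image_le Z).trans (hVW.trans hWU)) hxZ, hs, hψ,
    InvX.germ_res', hφ x hxV i, InvX.germ_res', hg₁]

theorem θ_bijective [IsLocallyNoetherian X] (hF : Coh.IsCoh F) (x : X) : Function.Bijective (θ F G x) :=
  ⟨θ_injective hF x, θ_surjective hF x⟩

end Groth.Agent.ProjDualR.ExtSh
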